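import Mathlib
import Cfsg.Prelude.Def_CaseTheorems
import Cfsg.Prelude.Def_Local
import Cfsg.Prelude.Def_Classical
import Cfsg.Agent.LieClassical.SympCenter
import Cfsg.Agent.FastGrp
import Cfsg.Agent.Prune
set_option linter.all false

section
prune_inst 0x7f00000000000000000000000000000000000000000000000000000000000000000000000000000000000000000000000000000000000000000000000000000000000000000000000000000000000000003fffffffffffffffffffffffffffbeffbdffffffff

-- part: ETable/Base
section
set_option linter.all false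
open scoped Cfsg.Agent.FastGrp

/-!
# Witnesses for `e(G) ≥ k` (helper17)

`Wit p k G` : a nontrivial 2-subgroup `T` of `G` is normalised by an elementary abelian `p`-subgroup `E` of order at
least `p ^ k`; so the 2-local `N(T)` has `p`-rank at least `k`.

* `Wit.not_twoLocal`, `Wit.not_odd` : `¬ TwoLocalPRankLE p k G`, `¬ OddTwoLocalRankLE k G` from `Wit p (k + 1) G`;
* `Wit.of_injective`, `Wit.congr`, `Wit.mono` : transport;
* `Wit.of_hom` : `E` the image of an abelian group of exponent `p`;
* `Wit.of_quot` : the same in a central quotient;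
* `Wit.of_pairs` : `E` generated by the products `u i * v i` of pairs of involutions (`u v u = v u v`, commuting pairs);
* `Wit.of_family` : `E` generated by commuting elements `h i` of order `p`, independent because of elements `l i`.
-/

set_option autoImplicit false

namespace Cfsg.Agent.ETable

open Cfsg Subgroup

/-- a nontrivial 2-subgroup normalised by an elementary abelian `p`-subgroup of order at least `p ^ k` -/
def Wit (p k : ℕ) (G : Type*) [Group G] : Prop :=
  ∃ (T E : Subgroup G), IsPGroup 2 T ∧ T ≠ ⊥ ∧ IsMulCommutative E ∧ (∀ a ∈ E, a ^ p = 1) ∧ p ^ k ≤ Nat.card E ∧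
    E ≤ normalizer (T : Set G)

variable {p k : ℕ} {G H : Type*} [Group G] [Group H]

theorem Wit.not_twoLocal (hp : 1 < p) (h : Wit p (k + 1) G) : ¬ TwoLocalPRankLE p k G := by
  obtain ⟨T, E, hT, hT1, hE, hEp, hc, hn⟩ := h
  intro hle
  have h1 := hle (normalizer (T : Set G)) ⟨T, hT, hT1, rfl⟩ (E.subgroupOf (normalizer (T : Set G))) ?_ ?_
  · have h2 : Nat.card (E.subgroupOf (normalizer (T : Set G))) = Nat.card E :=
      Nat.card_congr (Subgroup.subgroupOfEquivOfLe hn).toEquiv
    rw [h2] at h1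
    have h3 : p ^ k < p ^ (k + 1) := Nat.pow_lt_pow_right hp (Nat.lt_succ_self k)
    omega
  · exact ⟨⟨fun a b => by
      have := hE.is_comm.comm ⟨((a : normalizer (T : Set G)) : G), a.2⟩ ⟨((b : normalizer (T : Set G)) : G), b.2⟩
      refine Subtype.ext (Subtype.ext ?_)
      have h4 := congrArg (fun z : E => (z : G)) this
      exact h4⟩⟩
  · intro a ha
    exact Subtype.ext (hEp _ ha)

theorem Wit.not_odd (hp : p.Prime) (hp2 : p ≠ 2) (h : Wit p (k + 1) G) : ¬ OddTwoLocalRankLE k G :=
  fun hle => h.not_twoLocal hp.one_lt (hle p hp hp2)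

theorem Wit.of_injective (f : G →* H) (hf : Function.Injective f) (h : Wit p k G) : Wit p k H := by
  obtain ⟨T, E, hT, hT1, hE, hEp, hc, hn⟩ := h
  refine ⟨T.map f, E.map f, hT.map f, ?_, ?_, ?_, ?_, ?_⟩
  · intro h0
    exact hT1 ((Subgroup.map_eq_bot_iff_of_injective _ hf).1 h0)
  · exact ⟨⟨by
      rintro ⟨_, a, ha, rfl⟩ ⟨_, b, hb, rfl⟩
      have := hE.is_comm.comm ⟨a, ha⟩ ⟨b, hb⟩
      refine Subtype.ext ?_
      show f a * f b = f b * f a
      rw [← map_mul, ← map_mul]
      exact congrArg (fun z : E => f (z : G)) this⟩⟩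
  · rintro _ ⟨a, ha, rfl⟩
    rw [← map_pow, hEp a ha, map_one]
  · rw [Nat.card_congr (Subgroup.equivMapOfInjective E f hf).symm.toEquiv]
    exact hc
  · rintro _ ⟨a, ha, rfl⟩
    rw [mem_normalizer_iff]
    intro y
    have h1 := hn ha
    rw [mem_normalizer_iff] at h1
    constructor
    · rintro ⟨z, hz, rfl⟩
      exact ⟨a * z * a⁻¹, (h1 z).1 hz, by simp⟩
    · rintro ⟨z, hz, hzy⟩
      refine ⟨a⁻¹ * z * a, ?_, ?_⟩
      · have h2 := (h1 (a⁻¹ * z * a)).2 (by
          have : a * (a⁻¹ * z * a) * a⁻¹ = z := by group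
          rw [this]; exact hz)
        exact h2
      · rw [map_mul, map_mul, hzy, map_inv]
        group

theorem Wit.congr (e : G ≃* H) (h : Wit p k G) : Wit p k H := h.of_injective e.toMonoidHom e.injective

theorem Wit.mono {j : ℕ} (hp : 1 ≤ p) (hjk : j ≤ k) (h : Wit p k G) : Wit p j G := by
  obtain ⟨T, E, hT, hT1, hE, hEp, hc, hn⟩ := h
  exact ⟨T, E, hT, hT1, hE, hEp, (Nat.pow_le_pow_right hp hjk).trans hc, hn⟩

/-- `E` as the image of an abelian group of exponent `p`. -/
theorem Wit.of_hom {A : Type*} [CommGroup A] (φ : A →* G) (hφ : Function.Injective φ) (hA : ∀ a : A, a ^ p = 1)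
    (hc : p ^ k ≤ Nat.card A) (T : Subgroup G) (hT : IsPGroup 2 T) (hT1 : T ≠ ⊥)
    (hn : ∀ a, φ a ∈ normalizer (T : Set G)) : Wit p k G := by
  refine ⟨T, φ.range, hT, hT1, ?_, ?_, ?_, ?_⟩
  · exact ⟨⟨by
      rintro ⟨_, a, rfl⟩ ⟨_, b, rfl⟩
      refine Subtype.ext ?_
      show φ a * φ b = φ b * φ a
      rw [← map_mul, ← map_mul, mul_comm]⟩⟩
  · rintro _ ⟨a, rfl⟩
    rw [← map_pow, hA, map_one]
  · rw [← Nat.card_congr (MonoidHom.ofInjective hφ).toEquiv]
    exact hc
  · rintro _ ⟨a, rfl⟩
    exact hn a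

/-- in a quotient by a normal subgroup `Z`. -/
theorem Wit.of_quot {A : Type*} [CommGroup A] (Z : Subgroup G) [Z.Normal] (φ : A →* G) (hφ : ∀ a, φ a ∈ Z → a = 1)
    (hA : ∀ a : A, a ^ p = 1) (hc : p ^ k ≤ Nat.card A) (T : Subgroup G) (hT : IsPGroup 2 T) (hT1 : ¬ T ≤ Z)
    (hn : ∀ a, φ a ∈ normalizer (T : Set G)) : Wit p k (G ⧸ Z) := by
  refine Wit.of_hom ((QuotientGroup.mk' Z).comp φ) ?_ hA hc (T.map (QuotientGroup.mk' Z)) (hT.map _) ?_ ?_
  · rw [injective_iff_map_eq_one]
    intro a ha
    refine hφ a ?_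
    rw [MonoidHom.comp_apply, QuotientGroup.mk'_apply, QuotientGroup.eq_one_iff] at ha
    exact ha
  · intro h0
    rw [Subgroup.map_eq_bot_iff, QuotientGroup.ker_mk'] at h0
    exact hT1 h0
  · intro a
    have h1 := hn a
    rw [mem_normalizer_iff] at h1 ⊢
    intro y
    rw [MonoidHom.comp_apply]
    constructor
    · rintro ⟨z, hz, rfl⟩
      exact ⟨φ a * z * (φ a)⁻¹, (h1 z).1 hz, by simp⟩
    · rintro ⟨z, hz, hzy⟩
      refine ⟨(φ a)⁻¹ * z * φ a, ?_, ?_⟩
      · refine (h1 _).2 ?_
        have : φ a * ((φ a)⁻¹ * z * φ a) * (φ a)⁻¹ = z := by group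
        rw [this]; exact hz
      · rw [map_mul, map_mul, hzy, map_inv]
        group

/-- if `h ^ n` commutes with `l` but `h` does not and `h ^ p = 1` then `p ∣ n` -/
theorem dvd_of_commute_zpow (hp : p.Prime) {h l : G} (hh : h ^ p = 1) (hl : ¬ Commute h l) {n : ℤ}
    (hn : Commute (h ^ n) l) : (p : ℤ) ∣ n := by
  by_contra hd
  have hcop : IsCoprime (p : ℤ) n := (Nat.prime_iff_prime_int.1 hp).irreducible.coprime_iff_not_dvd.2 hd
  obtain ⟨a, b, hab⟩ := hcop
  refine hl ?_
  have h1 : h = (h ^ n) ^ b := by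
    rw [← zpow_mul]
    have h2 : (h ^ (p : ℤ)) ^ a * h ^ (n * b) = h := by
      rw [← zpow_mul, ← zpow_add]
      have : (p : ℤ) * a + n * b = 1 := by rw [← hab]; ring
      rw [this, zpow_one]
    rw [zpow_natCast, hh, one_zpow, one_mul] at h2
    exact h2.symm
  rw [h1]
  exact hn.zpow_left b

theorem Wit.of_family (hp : p.Prime) (h l : Fin k → G) (hc : ∀ i j, Commute (h i) (h j)) (hh : ∀ i, h i ^ p = 1)
    (hl : ∀ i, ¬ Commute (h i) (l i)) (hlj : ∀ i j, i ≠ j → Commute (h i) (l j)) (T : Subgroup G)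
    (hT : IsPGroup 2 T) (hT1 : T ≠ ⊥) (hn : ∀ i, h i ∈ normalizer (T : Set G)) : Wit p k G := by
  classical
  set E : Subgroup G := closure (Set.range h) with hE
  have hEc : IsMulCommutative E := by
    rw [hE]
    refine Subgroup.isMulCommutative_closure ?_
    rintro _ ⟨i, rfl⟩ _ ⟨j, rfl⟩
    exact hc i j
  have hcomm : ∀ a ∈ E, ∀ b ∈ E, a * b = b * a := by
    intro a ha b hb
    have := hEc.is_comm.comm ⟨a, ha⟩ ⟨b, hb⟩
    exact congrArg (fun z : E => (z : G)) this
  have hexp : ∀ a ∈ E, a ^ p = 1 := by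
    intro a ha
    induction ha using Subgroup.closure_induction with
    | mem x hx => obtain ⟨i, rfl⟩ := hx; exact hh i
    | one => exact one_pow p
    | mul x y hx hy ihx ihy =>
      have : Commute x y := hcomm x hx y hy
      rw [this.mul_pow, ihx, ihy, one_mul]
    | inv x hx ih => rw [inv_pow, ih, inv_one]
  refine ⟨T, E, hT, hT1, hEc, hexp, ?_, ?_⟩
  · letI : CommGroup E := { (inferInstance : Group E) with mul_comm := fun a b => hEc.is_comm.comm a b }
    let hE' : Fin k → E := fun i => ⟨h i, Subgroup.subset_closure ⟨i, rfl⟩⟩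
    let f : (Fin k → Fin p) → E := fun a => ∏ i, hE' i ^ (a i : ℕ)
    have hcf : ∀ (i : Fin k) (s : Finset (Fin k)) (a : Fin k → Fin p), i ∉ s →
        Commute (((∏ j ∈ s, hE' j ^ (a j : ℕ) : E)) : G) (l i) := by
      intro i s a
      induction s using Finset.induction_on with
      | empty => intro _; simp
      | insert j s hj ih =>
        intro hi
        rw [Finset.prod_insert hj]
        rw [Finset.mem_insert, not_or] at hi
        have h1 : Commute (h j ^ (a j : ℕ)) (l i) := (hlj j i (Ne.symm hi.1)).pow_left _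
        have h2 := ih hi.2
        have h3 : (((hE' j ^ (a j : ℕ) * ∏ j ∈ s, hE' j ^ (a j : ℕ) : E)) : G) =
            h j ^ (a j : ℕ) * ((∏ j ∈ s, hE' j ^ (a j : ℕ) : E) : G) := rfl
        rw [h3]
        exact h1.mul_left h2
    have hf : Function.Injective f := by
      intro a b hab
      funext i
      have ha : f a = hE' i ^ (a i : ℕ) * ∏ j ∈ Finset.univ.erase i, hE' j ^ (a j : ℕ) :=
        (Finset.mul_prod_erase _ _ (Finset.mem_univ i)).symm
      have hb : f b = hE' i ^ (b i : ℕ) * ∏ j ∈ Finset.univ.erase i, hE' j ^ (b j : ℕ) :=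
        (Finset.mul_prod_erase _ _ (Finset.mem_univ i)).symm
      rw [ha, hb] at hab
      set ya := ∏ j ∈ Finset.univ.erase i, hE' j ^ (a j : ℕ) with hya
      set yb := ∏ j ∈ Finset.univ.erase i, hE' j ^ (b j : ℕ) with hyb
      have h1 : Commute (ya : G) (l i) := hcf i _ a (Finset.notMem_erase i _)
      have h2 : Commute (yb : G) (l i) := hcf i _ b (Finset.notMem_erase i _)
      have h3 : hE' i ^ (((a i : ℕ) : ℤ) - ((b i : ℕ) : ℤ)) = yb * ya⁻¹ := by
        rw [zpow_sub, zpow_natCast, zpow_natCast]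
        rw [mul_inv_eq_iff_eq_mul]
        have : yb * ya⁻¹ * hE' i ^ (b i : ℕ) = hE' i ^ (b i : ℕ) * yb * ya⁻¹ := by
          rw [mul_comm (yb * ya⁻¹), mul_assoc]
        rw [this, ← hab, mul_inv_cancel_right]
      have h4 : Commute (h i ^ (((a i : ℕ) : ℤ) - ((b i : ℕ) : ℤ))) (l i) := by
        have h5 : h i ^ (((a i : ℕ) : ℤ) - ((b i : ℕ) : ℤ)) = (yb : G) * (ya : G)⁻¹ := by
          have := congrArg (fun z : E => (z : G)) h3
          simpa using this
        rw [h5]
        exact h2.mul_left h1.inv_left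
      have h5 := dvd_of_commute_zpow hp (hh i) (hl i) h4
      have h6 : (((a i : ℕ) : ℤ) - ((b i : ℕ) : ℤ)) = 0 := by
        refine Int.eq_zero_of_abs_lt_dvd h5 ?_
        have h7 := (a i).isLt
        have h8 := (b i).isLt
        rw [abs_lt]
        constructor <;> omega
      exact Fin.ext (by omega)
    have hfin : Finite E ∨ Infinite E := finite_or_infinite E
    have hexpE : ∀ x : E, x ^ p = 1 := fun x => Subtype.ext (hexp x x.2)
    have hfinE : Finite E := by
      have hfg : Group.FG E := by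
        rw [Group.fg_iff_subgroup_fg]
        exact ⟨(Set.finite_range h).toFinset, by simp [hE]⟩
      have htor : Monoid.IsTorsion E := fun x => isOfFinOrder_iff_pow_eq_one.2 ⟨p, hp.pos, hexpE x⟩
      exact CommGroup.finite_of_fg_torsion E htor
    calc p ^ k = Nat.card (Fin k → Fin p) := by simp
      _ ≤ Nat.card E := Nat.card_le_card_of_injective f hf
  · rw [hE, Subgroup.closure_le]
    rintro _ ⟨i, rfl⟩
    exact hn i

/-- pairs of involutions generating commuting copies of `S₃` -/
theorem Wit.of_pairs (u v : Fin k → G) (hu : ∀ i, u i * u i = 1) (hv : ∀ i, v i * v i = 1)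
    (hb : ∀ i, u i * v i * u i = v i * u i * v i) (hne : ∀ i, u i * v i ≠ 1)
    (huu : ∀ i j, i ≠ j → Commute (u i) (u j)) (huv : ∀ i j, i ≠ j → Commute (u i) (v j))
    (hvv : ∀ i j, i ≠ j → Commute (v i) (v j)) (T : Subgroup G)
    (hT : IsPGroup 2 T) (hT1 : T ≠ ⊥) (hnu : ∀ i, u i ∈ normalizer (T : Set G))
    (hnv : ∀ i, v i ∈ normalizer (T : Set G)) : Wit 3 k G := by
  refine Wit.of_family Nat.prime_three (fun i => u i * v i) u ?_ ?_ ?_ ?_ T hT hT1
    fun i => mul_mem (hnu i) (hnv i)
  · intro i j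
    by_cases h : i = j
    · subst h; exact Commute.refl _
    · exact ((huu i j h).mul_right (huv i j h)).mul_left ((huv j i (Ne.symm h)).symm.mul_right (hvv i j h))
  · intro i
    show (u i * v i) ^ 3 = 1
    calc (u i * v i) ^ 3 = (u i * v i * u i) * (v i * u i * v i) := by
          rw [pow_succ, pow_two]; simp only [mul_assoc]
      _ = (v i * u i * v i) * (v i * u i * v i) := by rw [hb]
      _ = v i * u i * (v i * v i) * (u i * v i) := by simp only [mul_assoc]
      _ = v i * (u i * u i) * v i := by rw [hv, mul_one]; simp only [mul_assoc]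
      _ = 1 := by rw [hu, mul_one, hv]
  · intro i hc
    have h1 : u i * v i * u i = u i * (u i * v i) := hc
    rw [← mul_assoc, hu, one_mul, hb, mul_assoc] at h1
    exact hne i (mul_left_cancel (h1.trans (mul_one _).symm))
  · intro i j h
    exact (huu i j h).mul_left (huv j i (Ne.symm h)).symm

end Cfsg.Agent.ETable
end

-- part: Sigma/PiWit
section
set_option linter.all false
open scoped Cfsg.Agent.FastGrp

/-!
# Witnesses in powers (helper32)

* `of_family_hom` : the criterion `ETable.Wit.of_family`, with the separating elements in a bigger group;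
* `wit_pi` : a witness in `ι → X` from an element `x` of order `p` which is not central in `X`.
-/

set_option autoImplicit false

namespace Cfsg.Agent.Sigma.PiWit

open Cfsg Subgroup Cfsg.Agent.ETable

variable {p k : ℕ}

/-- `ETable.Wit.of_family` with the separating elements in a bigger group. -/
theorem of_family_hom {G K : Type*} [Group G] [Group K] (ψ : G →* K) (hp : p.Prime) (h : Fin k → G) (l : Fin k → K)
    (hc : ∀ i j, Commute (h i) (h j)) (hh : ∀ i, h i ^ p = 1)
    (hl : ∀ i, ¬ Commute (ψ (h i)) (l i)) (hlj : ∀ i j, i ≠ j → Commute (ψ (h i)) (l j)) (T : Subgroup G)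
    (hT : IsPGroup 2 T) (hT1 : T ≠ ⊥) (hn : ∀ i, h i ∈ normalizer (T : Set G)) : Wit p k G := by
  classical
  set E : Subgroup G := closure (Set.range h) with hE
  have hEc : IsMulCommutative E := by
    rw [hE]
    refine Subgroup.isMulCommutative_closure ?_
    rintro _ ⟨i, rfl⟩ _ ⟨j, rfl⟩
    exact hc i j
  have hcomm : ∀ a ∈ E, ∀ b ∈ E, a * b = b * a := by
    intro a ha b hb
    have := hEc.is_comm.comm ⟨a, ha⟩ ⟨b, hb⟩
    exact congrArg (fun z : E => (z : G)) this
  have hexp : ∀ a ∈ E, a ^ p = 1 := by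
    intro a ha
    induction ha using Subgroup.closure_induction with
    | mem x hx => obtain ⟨i, rfl⟩ := hx; exact hh i
    | one => exact one_pow p
    | mul x y hx hy ihx ihy =>
      have : Commute x y := hcomm x hx y hy
      rw [this.mul_pow, ihx, ihy, one_mul]
    | inv x hx ih => rw [inv_pow, ih, inv_one]
  refine ⟨T, E, hT, hT1, hEc, hexp, ?_, ?_⟩
  · let _ : CommGroup E := { (inferInstance : Group E) with mul_comm := fun a b => hEc.is_comm.comm a b }
    let hE' : Fin k → E := fun i => ⟨h i, Subgroup.subset_closure ⟨i, rfl⟩⟩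
    let f : (Fin k → Fin p) → E := fun a => ∏ i, hE' i ^ (a i : ℕ)
    have hcf : ∀ (i : Fin k) (s : Finset (Fin k)) (a : Fin k → Fin p), i ∉ s →
        Commute (ψ (((∏ j ∈ s, hE' j ^ (a j : ℕ) : E)) : G)) (l i) := by
      intro i s a
      induction s using Finset.induction_on with
      | empty => intro _; simp
      | insert j s hj ih =>
        intro hi
        rw [Finset.prod_insert hj]
        rw [Finset.mem_insert, not_or] at hi
        have h1 : Commute (ψ (h j ^ (a j : ℕ))) (l i) := by
          rw [map_pow]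
          exact (hlj j i (Ne.symm hi.1)).pow_left _
        have h2 := ih hi.2
        have h3 : (((hE' j ^ (a j : ℕ) * ∏ j ∈ s, hE' j ^ (a j : ℕ) : E)) : G) =
            h j ^ (a j : ℕ) * ((∏ j ∈ s, hE' j ^ (a j : ℕ) : E) : G) := rfl
        rw [h3, map_mul]
        exact h1.mul_left h2
    have hf : Function.Injective f := by
      intro a b hab
      funext i
      have ha : f a = hE' i ^ (a i : ℕ) * ∏ j ∈ Finset.univ.erase i, hE' j ^ (a j : ℕ) :=
        (Finset.mul_prod_erase _ _ (Finset.mem_univ i)).symm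
      have hb : f b = hE' i ^ (b i : ℕ) * ∏ j ∈ Finset.univ.erase i, hE' j ^ (b j : ℕ) :=
        (Finset.mul_prod_erase _ _ (Finset.mem_univ i)).symm
      rw [ha, hb] at hab
      set ya := ∏ j ∈ Finset.univ.erase i, hE' j ^ (a j : ℕ) with hya
      set yb := ∏ j ∈ Finset.univ.erase i, hE' j ^ (b j : ℕ) with hyb
      have h1 : Commute (ψ (ya : G)) (l i) := hcf i _ a (Finset.notMem_erase i _)
      have h2 : Commute (ψ (yb : G)) (l i) := hcf i _ b (Finset.notMem_erase i _)
      have h3 : hE' i ^ (((a i : ℕ) : ℤ) - ((b i : ℕ) : ℤ)) = yb * ya⁻¹ := by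
        rw [zpow_sub, zpow_natCast, zpow_natCast]
        rw [mul_inv_eq_iff_eq_mul]
        have : yb * ya⁻¹ * hE' i ^ (b i : ℕ) = hE' i ^ (b i : ℕ) * yb * ya⁻¹ := by
          rw [mul_comm (yb * ya⁻¹), mul_assoc]
        rw [this, ← hab, mul_inv_cancel_right]
      have h4 : Commute (ψ (h i) ^ (((a i : ℕ) : ℤ) - ((b i : ℕ) : ℤ))) (l i) := by
        have h5 : h i ^ (((a i : ℕ) : ℤ) - ((b i : ℕ) : ℤ)) = (yb : G) * (ya : G)⁻¹ := by
          have := congrArg (fun z : E => (z : G)) h3
          simpa using this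
        rw [← map_zpow, h5, map_mul, map_inv]
        exact h2.mul_left h1.inv_left
      have h5 := dvd_of_commute_zpow hp (by rw [← map_pow, hh i, map_one]) (hl i) h4
      have h6 : (((a i : ℕ) : ℤ) - ((b i : ℕ) : ℤ)) = 0 := by
        refine Int.eq_zero_of_abs_lt_dvd h5 ?_
        have h7 := (a i).isLt
        have h8 := (b i).isLt
        rw [abs_lt]
        constructor <;> omega
      exact Fin.ext (by omega)
    have hexpE : ∀ x : E, x ^ p = 1 := fun x => Subtype.ext (hexp x x.2)
    have hfinE : Finite E := by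
      have hfg : Group.FG E := by
        rw [Group.fg_iff_subgroup_fg]
        exact ⟨(Set.finite_range h).toFinset, by simp [hE]⟩
      have htor : IsMulTorsion E := fun x => isOfFinOrder_iff_pow_eq_one.2 ⟨p, hp.pos, hexpE x⟩
      exact CommGroup.finite_of_fg_isMulTorsion E htor
    calc p ^ k = Nat.card (Fin k → Fin p) := by simp
      _ ≤ Nat.card E := Nat.card_le_card_of_injective f hf
  · rw [hE, Subgroup.closure_le]
    rintro _ ⟨i, rfl⟩
    exact hn i

/-- A witness in the group `ι → X`. -/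
theorem wit_pi {X ι : Type*} [Group X] [DecidableEq ι] (hp : p.Prime) {x l : X} (hx : x ^ p = 1)
    (hl : ¬ Commute x l) (T₀ : Subgroup X) (hT : IsPGroup 2 T₀) (hT1 : T₀ ≠ ⊥) (i₀ : ι) (e : Fin k → ι)
    (he : Function.Injective e) (h : x ∈ normalizer (T₀ : Set X) ∨ ∀ i, e i ≠ i₀) : Wit p k (ι → X) := by
  have hcm : ∀ i j : ι, i ≠ j → ∀ a b : X, Commute (Pi.mulSingle i a : ι → X) (Pi.mulSingle j b) :=
    fun i j hij a b => Pi.mulSingle_commute (f := fun _ : ι => X) hij a b
  let s : ι → X →* (ι → X) := fun i => MonoidHom.mulSingle (fun _ => X) i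
  have hs : ∀ i, Function.Injective (s i) := fun i => Pi.mulSingle_injective (M := fun _ : ι => X) i
  refine Wit.of_family hp (fun i => s (e i) x) (fun i => s (e i) l) (fun i j => ?_) (fun i => ?_) (fun i => ?_)
    (fun i j hij => ?_) (T₀.map (s i₀)) (hT.map _) ?_ (fun i => ?_)
  · by_cases hij : i = j
    · subst hij
      exact Commute.refl _
    · exact hcm _ _ (fun h0 => hij (he h0)) _ _
  · rw [← map_pow, hx, map_one]
  · intro h0
    exact hl (by
      have h1 : s (e i) (x * l) = s (e i) (l * x) := by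
        rw [map_mul, map_mul]
        exact h0
      exact hs _ h1)
  · exact hcm _ _ (fun h0 => hij (he h0)) _ _
  · intro h0
    exact hT1 ((Subgroup.map_eq_bot_iff_of_injective _ (hs i₀)).1 h0)
  · by_cases hi : e i = i₀
    · rcases h with h | h
      · rw [← hi]
        exact (le_normalizer_map (s (e i))) ⟨x, h, rfl⟩
      · exact absurd hi (h i)
    · refine centralizer_le_normalizer _ ?_
      rw [mem_centralizer_iff]
      rintro _ ⟨t, -, rfl⟩
      exact (hcm _ _ (Ne.symm hi) t x)

end Cfsg.Agent.Sigma.PiWit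
end

-- part: Sigma/Symp
section
set_option linter.all false
open scoped Cfsg.Agent.FastGrp

/-!
# Sigma rows: `PSp_{2m}(q)`, `q` even (helper32)

`wit` : for `|F|` even, `m ≥ 4`, not `m = 4` and `|F| = 2`: `ETable.Wit p 4 (PSp m F)` for some odd prime `p`.
More generally `wit_torus` (`p ∣ q - 1`, rank `m`) and `wit_three` (`p = 3`, rank `m - 1`).
-/

set_option autoImplicit false

namespace Cfsg.Agent.Sigma.Symp

open Cfsg Subgroup Matrix Cfsg.Agent.ETable Cfsg.Agent.Sigma.PiWit

variable {F : Type*} [Field F]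

/-- `SL₂(F)^m` in `Sp_{2m}(F)`. -/
def emb (m : ℕ) (F : Type*) [Field F] : (Fin m → Matrix.SpecialLinearGroup (Fin 2) F) →* symplecticGroup (Fin m) F where
  toFun g := ⟨fromBlocks (diagonal fun i => g i 0 0) (diagonal fun i => g i 0 1) (diagonal fun i => g i 1 0)
    (diagonal fun i => g i 1 1), by
      rw [SymplecticGroup.mem_iff, J, fromBlocks_transpose, fromBlocks_multiply, fromBlocks_multiply]
      simp only [diagonal_transpose, mul_zero, zero_add, mul_one, mul_neg, add_zero, neg_mul, diagonal_mul_diagonal]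
      congr 1
      · ext i j
        rcases eq_or_ne i j with rfl | hij
        · simp only [Matrix.add_apply, Matrix.neg_apply, diagonal_apply_eq, Matrix.zero_apply]
          ring
        · simp [hij]
      · ext i j
        rcases eq_or_ne i j with rfl | hij
        · have := (g i).det_coe
          rw [Matrix.det_fin_two] at this
          simp only [Matrix.add_apply, Matrix.neg_apply, diagonal_apply_eq, Matrix.one_apply_eq]
          linear_combination -this
        · simp [hij]
      · ext i j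
        rcases eq_or_ne i j with rfl | hij
        · have := (g i).det_coe
          rw [Matrix.det_fin_two] at this
          simp only [Matrix.add_apply, Matrix.neg_apply, diagonal_apply_eq, Matrix.one_apply_eq]
          linear_combination this
        · simp [hij]
      · ext i j
        rcases eq_or_ne i j with rfl | hij
        · simp only [Matrix.add_apply, Matrix.neg_apply, diagonal_apply_eq, Matrix.zero_apply]
          ring
        · simp [hij]⟩
  map_one' := by
    apply Subtype.ext
    change fromBlocks _ _ _ _ = (1 : Matrix _ _ F)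
    rw [← fromBlocks_one]
    congr 1
    all_goals simp only [_root_.Pi.one_apply, _root_.Fin.isValue, _root_.Matrix.SpecialLinearGroup.coe_one, _root_.ne_eq, _root_.zero_ne_one, _root_.not_false_eq_true, _root_.Matrix.one_apply_ne, _root_.Matrix.diagonal_zero, _root_.one_ne_zero]
  map_mul' g h := by
    apply Subtype.ext
    change fromBlocks _ _ _ _ = fromBlocks _ _ _ _ * fromBlocks _ _ _ _
    rw [fromBlocks_multiply]
    simp only [diagonal_mul_diagonal, diagonal_add, Pi.mul_apply, Matrix.SpecialLinearGroup.coe_mul,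
      Matrix.mul_apply, Fin.sum_univ_two]

theorem emb_injective (m : ℕ) : Function.Injective (emb m F) := by
  intro g h hgh
  have h1 : fromBlocks (diagonal fun i => g i 0 0) (diagonal fun i => g i 0 1) (diagonal fun i => g i 1 0)
    (diagonal fun i => g i 1 1) = fromBlocks (diagonal fun i => h i 0 0) (diagonal fun i => h i 0 1)
    (diagonal fun i => h i 1 0) (diagonal fun i => h i 1 1) := congrArg Subtype.val hgh
  rw [fromBlocks_inj] at h1
  obtain ⟨ha, hb, hc, hd⟩ := h1
  funext i
  apply Subtype.ext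
  ext a b
  have e0 := congrFun (diagonal_injective ha) i
  have e1 := congrFun (diagonal_injective hb) i
  have e2 := congrFun (diagonal_injective hc) i
  have e3 := congrFun (diagonal_injective hd) i
  fin_cases a <;> fin_cases b
  · exact e0
  · exact e1
  · exact e2
  · exact e3

/-- `PSp = Sp` in characteristic two. -/
theorem center_eq_bot [CharP F 2] {m : ℕ} (hm : 1 ≤ m) :
    Subgroup.center (symplecticGroup (Fin m) F) = ⊥ := by
  rw [eq_bot_iff]
  intro A hA
  obtain ⟨a, ha⟩ := (LieClassical.SympCenter.mem_center_iff m A).1 hA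
  have h1 := LieClassical.SympCenter.sq_eq_one_of_smul_mem hm (ha ▸ A.2)
  have h2 : a = 1 := by
    rcases mul_self_eq_one_iff.1 h1 with h | h
    · exact h
    · rw [h, CharTwo.neg_eq]
  rw [Subgroup.mem_bot]
  apply Subtype.ext
  rw [ha, h2, one_smul]
  rfl

/-- the upper unitriangular group -/
def upper (F : Type*) [Field F] : Multiplicative F →* Matrix.SpecialLinearGroup (Fin 2) F where
  toFun t := ⟨!![1, t.toAdd; 0, 1], by simp [Matrix.det_fin_two]⟩
  map_one' := by
    apply Subtype.ext
    ext a b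
    (revert a b; simp only [_root_.Fin.forall_fin_succ, _root_.toAdd_one, _root_.Matrix.of_apply, _root_.Matrix.cons_val', _root_.Matrix.cons_val_fin_one, _root_.Matrix.SpecialLinearGroup.coe_one, Fin.isValue, _root_.Matrix.cons_val_zero, _root_.Matrix.cons_val_succ, _root_.IsEmpty.forall_iff, _root_.and_true, _root_.Matrix.one_apply_eq, Nat.reduceAdd, _root_.Fin.succ_zero_eq_one, _root_.ne_eq, _root_.zero_ne_one, _root_.not_false_eq_true, _root_.Matrix.one_apply_ne, _root_.and_self, _root_.Fin.succ_ne_zero, _root_.true_and])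
  map_mul' s t := by
    apply Subtype.ext
    change !![1, s.toAdd + t.toAdd; 0, 1] = !![1, s.toAdd; 0, 1] * !![1, t.toAdd; 0, 1]
    rw [Matrix.mul_fin_two]
    simp [add_comm]

theorem coe_upper (t : F) : ((upper F (Multiplicative.ofAdd t) : Matrix.SpecialLinearGroup (Fin 2) F) :
    Matrix (Fin 2) (Fin 2) F) = !![1, t; 0, 1] := rfl

theorem upper_injective : Function.Injective (upper F) := by
  intro s t h
  have h1 := congrFun (congrFun (congrArg Subtype.val h) 0) 1
  exact h1

theorem upper_isPGroup [CharP F 2] : IsPGroup 2 ↥(upper F).range := by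
  rintro ⟨_, t, rfl⟩
  refine ⟨1, Subtype.ext ?_⟩
  change upper F t ^ (2 ^ 1) = 1
  rw [← map_pow, pow_one, pow_two, ← map_one (upper F)]
  congr 1
  exact CharTwo.add_self_eq_zero (R := F) t.toAdd

theorem upper_ne_bot : (upper F).range ≠ ⊥ := by
  intro h
  have h1 : upper F (Multiplicative.ofAdd 1) ∈ (upper F).range := ⟨_, rfl⟩
  rw [h, Subgroup.mem_bot, ← map_one (upper F)] at h1
  exact one_ne_zero (α := F) (upper_injective h1)

/-- An element of order three, in characteristic two. -/
def three (F : Type*) [Field F] : Matrix.SpecialLinearGroup (Fin 2) F := ⟨!![0, -1; 1, -1], by simp [Matrix.det_fin_two]⟩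

theorem three_pow : three F ^ 3 = 1 := by
  apply Subtype.ext
  rw [Matrix.SpecialLinearGroup.coe_pow]
  ext a b
  (revert a b; simp only [three, pow_succ, Matrix.mul_apply, Fin.sum_univ_two, _root_.Fin.forall_fin_succ, _root_.pow_zero, _root_.one_mul, _root_.Matrix.cons_mul, _root_.Nat.succ_eq_add_one, Nat.reduceAdd, _root_.Matrix.vecMul_cons, _root_.Matrix.head_cons, _root_.zero_smul, _root_.Matrix.tail_cons, _root_.neg_smul, _root_.one_smul, _root_.Matrix.neg_cons, _root_.neg_neg, _root_.Matrix.neg_empty, _root_.Matrix.empty_vecMul, _root_.add_zero, _root_.zero_add, _root_.Matrix.add_cons, _root_.neg_add_cancel, _root_.Matrix.empty_add_empty, _root_.Matrix.empty_mul, _root_.Equiv.symm_apply_apply, _root_.Matrix.of_apply, _root_.Matrix.cons_val', _root_.Matrix.cons_val_fin_one, Fin.isValue, _root_.Matrix.cons_val_zero, _root_.Matrix.cons_val_one, _root_.Matrix.SpecialLinearGroup.coe_one, _root_.MulZeroClass.mul_zero, _root_.mul_one, _root_.Matrix.cons_val_succ, _root_.mul_neg, _root_.IsEmpty.forall_iff,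 _root_.and_true, _root_.Matrix.one_apply_eq, _root_.add_neg_cancel, _root_.Fin.succ_zero_eq_one, _root_.ne_eq, _root_.zero_ne_one, _root_.not_false_eq_true, _root_.Matrix.one_apply_ne, _root_.and_self, _root_.Fin.succ_ne_zero, _root_.neg_zero, _root_.true_and])

theorem three_comm : ¬ Commute (three F) (upper F (Multiplicative.ofAdd 1)) := by
  intro h
  have h1 : !![0, -1; 1, -1] * !![1, 1; 0, 1] = !![1, 1; 0, 1] * (!![0, -1; 1, -1] : Matrix (Fin 2) (Fin 2) F) :=
    congrArg Subtype.val h
  rw [Matrix.mul_fin_two, Matrix.mul_fin_two] at h1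
  have h2 := congrFun (congrFun h1 0) 0
  simp at h2

/-- The diagonal element. -/
def dia (c : Fˣ) : Matrix.SpecialLinearGroup (Fin 2) F := ⟨!![(c : F), 0; 0, ((c⁻¹ : Fˣ) : F)], by simp [Matrix.det_fin_two]⟩

theorem dia_mul (c d : Fˣ) : dia (c * d) = dia c * dia d := by
  apply Subtype.ext
  change !![((c * d : Fˣ) : F), 0; 0, (((c * d)⁻¹ : Fˣ) : F)] =
    !![(c : F), 0; 0, ((c⁻¹ : Fˣ) : F)] * !![(d : F), 0; 0, ((d⁻¹ : Fˣ) : F)]
  rw [Matrix.mul_fin_two]
  simp only [mul_comm, _root_.Units.val_mul, _root_.mul_inv_rev, _root_.Units.val_inv_eq_inv_val, _root_.MulZeroClass.mul_zero, _root_.add_zero, _root_.zero_add]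

theorem dia_one : dia (1 : Fˣ) = 1 := by
  apply Subtype.ext
  ext a b
  (revert a b; simp only [dia, _root_.Fin.forall_fin_succ, _root_.Units.val_one, _root_.inv_one, _root_.Matrix.of_apply, _root_.Matrix.cons_val', _root_.Matrix.cons_val_fin_one, _root_.Matrix.SpecialLinearGroup.coe_one, Fin.isValue, _root_.Matrix.cons_val_zero, _root_.Matrix.cons_val_succ, _root_.IsEmpty.forall_iff, _root_.and_true, _root_.Matrix.one_apply_eq, Nat.reduceAdd, _root_.Fin.succ_zero_eq_one, _root_.ne_eq, _root_.zero_ne_one, _root_.not_false_eq_true, _root_.Matrix.one_apply_ne, _root_.and_self, _root_.Fin.succ_ne_zero, _root_.true_and])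

theorem dia_pow (c : Fˣ) (n : ℕ) : dia c ^ n = dia (c ^ n) := by
  induction n with
  | zero => rw [pow_zero, pow_zero, dia_one]
  | succ n ih => rw [pow_succ, pow_succ, dia_mul, ih]

theorem coe_dia (c : Fˣ) : ((dia c : Matrix.SpecialLinearGroup (Fin 2) F) : Matrix (Fin 2) (Fin 2) F) =
    !![(c : F), 0; 0, ((c⁻¹ : Fˣ) : F)] := rfl

theorem dia_upper (c : Fˣ) (t : F) : dia c * upper F (Multiplicative.ofAdd t) =
    upper F (Multiplicative.ofAdd ((c : F) ^ 2 * t)) * dia c := by
  apply Subtype.ext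
  rw [Matrix.SpecialLinearGroup.coe_mul, Matrix.SpecialLinearGroup.coe_mul, coe_dia, coe_upper, coe_upper,
    Matrix.mul_fin_two, Matrix.mul_fin_two]
  have hc : (c : F) ≠ 0 := c.ne_zero
  ext i j
  fin_cases i <;> fin_cases j
  · simp only [_root_.mul_one, _root_.MulZeroClass.mul_zero, _root_.add_zero, _root_.Units.val_inv_eq_inv_val, _root_.MulZeroClass.zero_mul, _root_.zero_add, _root_.Fin.zero_eta, _root_.Fin.isValue, _root_.Matrix.of_apply, _root_.Matrix.cons_val', _root_.Matrix.cons_val_zero, _root_.Matrix.cons_val_fin_one, _root_.one_mul]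
  · simp only [pow_two, _root_.mul_one, _root_.MulZeroClass.mul_zero, _root_.add_zero, _root_.Units.val_inv_eq_inv_val, _root_.MulZeroClass.zero_mul, _root_.zero_add, _root_.Fin.zero_eta, _root_.Fin.isValue, _root_.Fin.mk_one, _root_.Matrix.of_apply, _root_.Matrix.cons_val', _root_.Matrix.cons_val_one, _root_.Matrix.cons_val_fin_one, _root_.Matrix.cons_val_zero, _root_.one_mul]
    field_simp
  · simp only [_root_.mul_one, _root_.MulZeroClass.mul_zero, _root_.add_zero, _root_.Units.val_inv_eq_inv_val, _root_.MulZeroClass.zero_mul, _root_.zero_add, _root_.Fin.mk_one, _root_.Fin.isValue, _root_.Fin.zero_eta, _root_.Matrix.of_apply, _root_.Matrix.cons_val', _root_.Matrix.cons_val_zero, _root_.Matrix.cons_val_fin_one, _root_.Matrix.cons_val_one, _root_.one_mul]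
  · simp only [_root_.mul_one, _root_.MulZeroClass.mul_zero, _root_.add_zero, _root_.Units.val_inv_eq_inv_val, _root_.MulZeroClass.zero_mul, _root_.zero_add, _root_.Fin.mk_one, _root_.Fin.isValue, _root_.Matrix.of_apply, _root_.Matrix.cons_val', _root_.Matrix.cons_val_one, _root_.Matrix.cons_val_fin_one, _root_.one_mul]

theorem dia_comm {c : Fˣ} (hc : (c : F) ^ 2 ≠ 1) : ¬ Commute (dia c) (upper F (Multiplicative.ofAdd 1)) := by
  intro h
  have h1 : dia c * upper F (Multiplicative.ofAdd 1) = upper F (Multiplicative.ofAdd 1) * dia c := h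
  rw [dia_upper] at h1
  have h2 := upper_injective (mul_right_cancel h1)
  exact hc (by simpa only [_root_.sq_eq_one_iff, _root_.Units.val_eq_one, _root_.Units.val_eq_neg_one, _root_.mul_one, _root_.toAdd_ofAdd] using congrArg Multiplicative.toAdd h2)

theorem dia_mem_normalizer (c : Fˣ) : dia c ∈ normalizer ((upper F).range : Set (Matrix.SpecialLinearGroup (Fin 2) F)) := by
  have key : ∀ (d : Fˣ) (x : Matrix.SpecialLinearGroup (Fin 2) F), x ∈ (upper F).range → dia d * x * (dia d)⁻¹ ∈ (upper F).range := by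
    rintro d _ ⟨t, rfl⟩
    refine ⟨Multiplicative.ofAdd ((d : F) ^ 2 * t.toAdd), ?_⟩
    rw [eq_mul_inv_iff_mul_eq]
    exact (dia_upper d t.toAdd).symm
  rw [mem_normalizer_iff]
  intro x
  refine ⟨key c x, fun h => ?_⟩
  have h1 := key c⁻¹ _ h
  have e : (dia c⁻¹ : Matrix.SpecialLinearGroup (Fin 2) F) = (dia c)⁻¹ := by
    rw [eq_inv_iff_mul_eq_one, ← dia_mul, inv_mul_cancel, dia_one]
  rw [e] at h1
  have e2 : (dia c)⁻¹ * (dia c * x * (dia c)⁻¹) * (dia c)⁻¹⁻¹ = x := by group
  rwa [e2] at h1

/-- An odd prime divisor of `q - 1`, and an element of that order. -/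
theorem exists_unit [Fintype F] [CharP F 2] (hq : 2 < Fintype.card F) :
    ∃ (p : ℕ) (c : Fˣ), p.Prime ∧ p ≠ 2 ∧ c ^ p = 1 ∧ (c : F) ^ 2 ≠ 1 := by
  have h1 : Fintype.card F - 1 ≠ 1 := by omega
  obtain ⟨p, hp, hpd⟩ := Nat.exists_prime_and_dvd h1
  have hcard : Nat.card Fˣ = Fintype.card F - 1 := by
    rw [Nat.card_units, Nat.card_eq_fintype_card]
  have heven : Even (Fintype.card F) := by
    have h2 : (2 : ℕ) ∣ Fintype.card F := by
      rw [← CharP.cast_eq_zero_iff F 2 (Fintype.card F)]
      exact Nat.cast_card_eq_zero F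
    exact even_iff_two_dvd.2 h2
  have hp2 : p ≠ 2 := by
    rintro rfl
    obtain ⟨k, hk⟩ := heven
    obtain ⟨l, hl⟩ := hpd
    omega
  have : Fact p.Prime := ⟨hp⟩
  obtain ⟨c, hc⟩ := exists_prime_orderOf_dvd_card' p (by rw [hcard]; exact hpd)
  refine ⟨p, c, hp, hp2, ?_, ?_⟩
  · rw [← hc, pow_orderOf_eq_one]
  · intro h
    have h2 : c ^ 2 = 1 := by
      apply Units.ext
      simpa only [_root_.Units.val_pow_eq_pow_val, _root_.Units.val_one, _root_.sq_eq_one_iff, _root_.Units.val_eq_one, _root_.Units.val_eq_neg_one] using h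
    have h3 := orderOf_dvd_of_pow_eq_one h2
    rw [hc] at h3
    exact hp2 ((Nat.prime_dvd_prime_iff_eq hp Nat.prime_two).1 h3)

theorem wit_of_pi [CharP F 2] {m : ℕ} (hm : 1 ≤ m) {p k : ℕ} (h : Wit p k (Fin m → Matrix.SpecialLinearGroup (Fin 2) F)) :
    Wit p k (PSp m F) := by
  have h1 := h.of_injective (emb m F) (emb_injective m)
  exact h1.congr ((QuotientGroup.quotientMulEquivOfEq (center_eq_bot hm)).trans QuotientGroup.quotientBot).symm

/-- the torus -/
theorem wit_torus [CharP F 2] {m : ℕ} (hm : 1 ≤ m) {p : ℕ} (hp : p.Prime) {c : Fˣ} (hc : c ^ p = 1)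
    (hc2 : (c : F) ^ 2 ≠ 1) : Wit p m (PSp m F) := by
  refine wit_of_pi hm (wit_pi hp (x := dia c) (l := upper F (Multiplicative.ofAdd 1)) ?_ (dia_comm hc2) (upper F).range
    upper_isPGroup upper_ne_bot ⟨0, hm⟩ id Function.injective_id (Or.inl (dia_mem_normalizer c)))
  rw [dia_pow, hc, dia_one]

/-- elements of order three -/
theorem wit_three [CharP F 2] {m : ℕ} : Wit 3 m (PSp (m + 1) F) := by
  refine wit_of_pi (by omega) (wit_pi Nat.prime_three (x := three F) (l := upper F (Multiplicative.ofAdd 1)) three_pow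
    three_comm (upper F).range upper_isPGroup upper_ne_bot 0 Fin.succ (Fin.succ_injective m)
    (Or.inr fun i => Fin.succ_ne_zero i))

/-- **The row.** -/
theorem wit [Fintype F] [CharP F 2] {m : ℕ} (hm : 4 ≤ m) (h4 : m = 4 → Fintype.card F ≠ 2) :
    ∃ p : ℕ, p.Prime ∧ p ≠ 2 ∧ Wit p 4 (PSp m F) := by
  by_cases h : m = 4
  · have hq : 2 < Fintype.card F := lt_of_le_of_ne Fintype.one_lt_card (Ne.symm (h4 h))
    obtain ⟨p, c, hp, hp2, hc, hc2⟩ := exists_unit (F := F) hq
    exact ⟨p, hp, hp2, (wit_torus (by omega) hp hc hc2).mono hp.one_le hm⟩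
  · obtain ⟨n, rfl⟩ : ∃ n, m = n + 1 := ⟨m - 1, by omega⟩
    exact ⟨3, Nat.prime_three, by norm_num, wit_three.mono (by norm_num) (by omega)⟩

end Cfsg.Agent.Sigma.Symp

private theorem dce_011973bc7b19 : _root_.True := by
  try have : _root_.True := by simp only [_root_.Cfsg.Agent.Sigma.Symp.dia.eq_1]
  try have : _root_.True := by simp only [_root_.Cfsg.Agent.Sigma.Symp.three.eq_1]
  exact _root_.True.intro
end
end
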