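import Cfsg.Agent.SigTab.RestList_m3
import Cfsg.Agent.S0252
import Cfsg.Agent.S0253
import Cfsg.Agent.S0254
import Cfsg.Agent.S0255
import Cfsg.Agent.S0256
import Cfsg.Agent.S0822
import Cfsg.Agent.Sigma.Symp
import Cfsg.Agent.Prune
set_option linter.all false

section
prune_inst 0x7fffffffffff7fffffff7e7fffffffffffffffffffdffbfbfffeffffbffffb9efffdfbafffebf9ff3ffefefe3afd7fd7fffffeffeffffd7ffffdfff47fffffdfffffbfb971ff9dbedfff6ffffbf9ffce7f3fffffffffffffffffffffffffffbeffffffffffff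

-- part: SevenCases/Main
section
prune_inst 0x200000000000000000040000000000000000000000000000000000000000000000000000000000000000000000000000000000000000000000000000000000000000000000000000000000000000000000
set_option linter.all false
open scoped Cfsg.Agent.FastGrp

/-!
# S1802, S1803 from the table (helper71)

`Verdict G` : the possibilities for a known simple group `G` in the case division at the prime two;
`verdict` : the verdict from the rows; `s1802`, `s1803` : the literal statements from the verdicts.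
-/

set_option autoImplicit false

namespace Cfsg.Agent.SevenCases

open Cfsg

universe u

/-! ### elementary facts -/

theorem prankLE_of_not_atLeast {G : Type u} [Group G] {p k : ℕ} (h : ¬ PRankAtLeast p k G) : PRankLE p k G := by
  intro A hA hp
  by_contra hc
  exact h ⟨A, hA, hp, by omega⟩

theorem not_prankLE_of_atLeast {G : Type u} [Group G] {p k l : ℕ} (hp : 1 < p) (hkl : l < k)
    (h : PRankAtLeast p k G) : ¬ PRankLE p l G := by
  intro hl
  obtain ⟨A, hA, hAp, hc⟩ := h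
  have h1 := hl A hA hAp
  have h2 : p ^ l < p ^ k := Nat.pow_lt_pow_right hp hkl
  omega

theorem charP_two_or_odd (F : Type) [Field F] [Fintype F] : CharP F 2 ∨ Odd (Fintype.card F) := by
  obtain ⟨p, hp⟩ := CharP.exists F
  obtain ⟨n, hpr, hn⟩ := FiniteField.card F p
  rcases hpr.eq_two_or_odd' with h | h
  · left
    exact h ▸ hp
  · right
    rw [hn]
    exact h.pow

theorem charP_two_of_card {F : Type} [Field F] [Fintype F] {n : ℕ} (hn : n ≠ 0) (h : Fintype.card F = 2 ^ n) :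
    CharP F 2 := by
  rcases charP_two_or_odd F with h1 | h1
  · exact h1
  · exfalso
    rw [h] at h1
    exact (Nat.not_odd_iff_even.mpr ((Nat.even_pow' hn).mpr even_two)) h1

theorem card_eq_two_pow {F : Type} [Field F] [Fintype F] (h : CharP F 2) :
    ∃ n : ℕ, 1 ≤ n ∧ Fintype.card F = 2 ^ n := by
  obtain ⟨n, _, hn⟩ := FiniteField.card F 2
  exact ⟨n, n.2, hn⟩

theorem exists_field (p n : ℕ) [Fact p.Prime] (hn : n ≠ 0) :
    ∃ (F : Type) (_ : Field F) (_ : Fintype F), Fintype.card F = p ^ n := by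
  let _ : Fintype (GaloisField p n) := Fintype.ofFinite _
  refine ⟨GaloisField p n, inferInstance, inferInstance, ?_⟩
  rw [← Nat.card_eq_fintype_card, GaloisField.card p n hn]

/-! ### verdicts -/

/-- The possibilities for a known simple group `G` in the case division at the prime two. -/
def Verdict (G : Type u) [Group G] : Prop :=
  IsOfRestrictedEvenType G ∨
  LpoExists 2 G (InGp 2) ∨
  (InTargetTwo G ∧ (LpExists 2 G InBTwo ∨ PRankLE 2 3 G)) ∨
  (InTargetThree G ∧ ¬ LpExists 2 G InBTwo ∧ PRankAtLeast 2 4 G) ∨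
  (PRankLE 2 3 G ∧ ∃ M : Subgroup G, IsTwoUniquenessSubgroup M)

theorem not_special_of_exists {G : Type u} [Group G] (h : LpoExists 2 G (InGp 2)) : ¬ IsLTwoSpecialType G := by
  intro hs
  obtain ⟨x, hx, hr, K, hK, hG⟩ := h
  rcases hs x hx hr K hK with h1 | h1
  · exact hG.2.2.2.1 h1
  · exact hG.2.2.2.2 h1

/-- **S1803** from the verdict. -/
theorem s1803 {G : Type u} [Group G] (hv : Verdict G) (hL : IsLTTwoType G) : InTargetThree G := by
  obtain ⟨_, hso, hlb⟩ := hL
  rcases hv with h | h | ⟨_, h⟩ | ⟨h, _⟩ | ⟨h, _⟩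
  · exact absurd h hso.2
  · exact absurd hso.1 (not_special_of_exists h)
  · exact absurd ⟨hso, h⟩ hlb
  · exact h
  · exact absurd ⟨hso, Or.inr h⟩ hlb

/-- **S1802** from the verdict. -/
theorem s1802 {G : Type u} [Group G] (hv : Verdict G) (hL : IsLBTwoType G)
    (hU : ¬ ∃ M : Subgroup G, IsTwoUniquenessSubgroup M) : InTargetTwo G := by
  obtain ⟨hso, hb⟩ := hL
  rcases hv with h | h | ⟨h, _⟩ | ⟨_, h1, h2⟩ | ⟨_, h⟩
  · exact absurd h hso.2
  · exact absurd hso.1 (not_special_of_exists h)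
  · exact h
  · rcases hb with h | h
    · exact absurd h h1
    · exact absurd h (not_prankLE_of_atLeast (by norm_num) (by norm_num) h2)
  · exact absurd h hU

/-! ### the isomorphisms -/

theorem targetTwo_a6 {G : Type u} [Group G] (e : G ≃* alternatingGroup (Fin 6)) : InTargetTwo G := by
  obtain ⟨K, _, _, hc⟩ := exists_field 3 2 (by norm_num)
  obtain ⟨f⟩ := S0254.result (F := K) (by rw [hc]; norm_num)
  exact Or.inl ⟨K, inferInstance, inferInstance, by rw [hc]; decide, Or.inl ⟨by rw [hc]; norm_num,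
    ⟨e.trans f.symm⟩⟩⟩

theorem targetTwo_l32 {G : Type u} [Group G] {F : Type} [Field F] [Fintype F] (hF : Fintype.card F = 2)
    (e : G ≃* Matrix.ProjectiveSpecialLinearGroup (Fin 3) F) : InTargetTwo G := by
  have : Fact (Nat.Prime 7) := ⟨by norm_num⟩
  obtain ⟨f⟩ := S0255.result (F := ZMod 7) (K := F) (ZMod.card 7) hF
  exact Or.inl ⟨ZMod 7, inferInstance, inferInstance, by rw [ZMod.card]; decide, Or.inl ⟨by rw [ZMod.card]; norm_num,
    ⟨e.trans f.symm⟩⟩⟩

theorem targetTwo_u3 {G : Type u} [Group G] {F : Type} [Field F] [Fintype F] {q : ℕ} (hq : Odd q)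
    (hF : Fintype.card F = q ^ 2) (e : G ≃* PSU 3 F q) : InTargetTwo G :=
  Or.inr (Or.inl ⟨F, inferInstance, inferInstance, q, hq, hF, Or.inl ⟨e⟩⟩)

/-- `A₅` is of type `L₂(4)`. -/
theorem pslTwoEven_a5 {G : Type u} [Group G] (e : G ≃* alternatingGroup (Fin 5)) : PslTwoEven G := by
  obtain ⟨K, _, _, hc⟩ := exists_field 2 2 (by norm_num)
  obtain ⟨f⟩ := S0252.result (F := K) (by rw [hc]; norm_num)
  exact ⟨K, inferInstance, inferInstance, 2, le_rfl, hc, ⟨e.trans f.symm⟩⟩

theorem chevSimple_of_pslTwoEven {G : Type u} [Group G] (h : PslTwoEven G) : IsChevSimple 2 G := by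
  obtain ⟨F, _, _, n, hn, hc, e⟩ := h
  have : CharP F 2 := charP_two_of_card (by omega) hc
  refine Or.inl (Or.inl ⟨F, inferInstance, inferInstance, this, 2, le_rfl, fun _ => ?_, e⟩)
  rw [hc]
  calc 4 = 2 ^ 2 := by norm_num
    _ ≤ 2 ^ n := Nat.pow_le_pow_right (by norm_num) hn

theorem chevSimple_a8 {G : Type u} [Group G] (e : G ≃* alternatingGroup (Fin 8)) : IsChevSimple 2 G := by
  have : Fact (Nat.Prime 2) := ⟨Nat.prime_two⟩
  obtain ⟨f⟩ := S0256.result (F := ZMod 2) (ZMod.card 2)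
  exact Or.inl (Or.inl ⟨ZMod 2, inferInstance, inferInstance, inferInstance, 4, by norm_num, fun h => by omega,
    ⟨e.trans f.symm⟩⟩)

/-- `PSp₄(3) ≅ U₄(2)`. -/
theorem chevSimple_psp43 {G : Type u} [Group G] {K : Type} [Field K] [Fintype K] (hK : Fintype.card K = 3)
    (e : G ≃* PSp 2 K) : IsChevSimple 2 G := by
  obtain ⟨F, _, _, hc⟩ := exists_field 2 2 (by norm_num)
  obtain ⟨f⟩ := S0822.result (F := F) (K := K) (by rw [hc]; norm_num) hK
  exact Or.inl (Or.inr (Or.inr (Or.inl ⟨F, inferInstance, inferInstance,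
    charP_two_of_card (n := 2) (by norm_num) hc, 4, 2, hc, by norm_num,
    by norm_num, ⟨e.trans f.symm⟩⟩)))

/-! ### the verdicts -/

/-- The table. -/
structure Table : Prop where
  spor : SporRes.{u}
  lie : LieRes.{u}
  gen : GenRows.{u}
  b : BRows.{u}
  low : LowRows.{u}
  altB : AltNotB.{u}
  two : TwoURows.{u}

/-- `S1788`. -/
def RankThree : Prop :=
  ∀ (G : Type u) [Group G] [Finite G] [IsSimpleGroup G], ¬ IsMulCommutative G → IsChevSimple 2 G →
    (¬ ∃ (F : Type) (_ : Field F) (_ : Fintype F), Fintype.card F = 4 ∧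
      Nonempty (G ≃* Matrix.ProjectiveSpecialLinearGroup (Fin 2) F)) →
    (¬ ∃ (F : Type) (_ : Field F) (_ : Fintype F), Fintype.card F = 16 ∧ Nonempty (G ≃* PSU 3 F 4)) →
    (¬ ∃ (F : Type) (_ : Field F) (_ : Fintype F), Fintype.card F = 2 ∧
      Nonempty (G ≃* Matrix.ProjectiveSpecialLinearGroup (Fin 3) F)) →
    (¬ Nonempty (G ≃* alternatingGroup (Fin 6))) →
    (¬ ∃ (F : Type) (_ : Field F) (_ : Fintype F), Fintype.card F = 9 ∧ Nonempty (G ≃* PSU 3 F 3)) →
    PRankAtLeast 2 3 G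

variable {G : Type u} [Group G] [Finite G]

/-- groups of Lie type in characteristic two -/
theorem verdict_two (T : Table.{u}) (h3 : RankThree.{u}) [hs : IsSimpleGroup G] (hG : ¬ IsMulCommutative G)
    (h : IsChevSimple 2 G) : Verdict G := by
  by_cases hr : PRankAtLeast 2 3 G
  · exact Or.inl (T.lie.charTwo G ⟨hs, hG, h, hr⟩)
  have hlow : PRankLE 2 3 G := prankLE_of_not_atLeast hr
  by_cases h1 : ∃ (F : Type) (_ : Field F) (_ : Fintype F), Fintype.card F = 4 ∧
      Nonempty (G ≃* Matrix.ProjectiveSpecialLinearGroup (Fin 2) F)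
  · obtain ⟨F, _, _, hF, e⟩ := h1
    exact Or.inr (Or.inr (Or.inr (Or.inr ⟨hlow, T.two.psl2 G ⟨F, inferInstance, inferInstance, 2, le_rfl,
      by rw [hF]; norm_num, e⟩⟩)))
  by_cases h2 : ∃ (F : Type) (_ : Field F) (_ : Fintype F), Fintype.card F = 16 ∧ Nonempty (G ≃* PSU 3 F 4)
  · obtain ⟨F, _, _, hF, e⟩ := h2
    exact Or.inr (Or.inr (Or.inr (Or.inr ⟨hlow, T.two.psu3 G ⟨F, inferInstance, inferInstance, 2, le_rfl,
      by rw [hF]; norm_num, e⟩⟩)))
  by_cases h3' : ∃ (F : Type) (_ : Field F) (_ : Fintype F), Fintype.card F = 2 ∧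
      Nonempty (G ≃* Matrix.ProjectiveSpecialLinearGroup (Fin 3) F)
  · obtain ⟨F, _, _, hF, ⟨e⟩⟩ := h3'
    exact Or.inr (Or.inr (Or.inl ⟨targetTwo_l32 hF e, Or.inr hlow⟩))
  by_cases h4 : Nonempty (G ≃* alternatingGroup (Fin 6))
  · obtain ⟨e⟩ := h4
    exact Or.inr (Or.inr (Or.inl ⟨targetTwo_a6 e, Or.inr hlow⟩))
  by_cases h5 : ∃ (F : Type) (_ : Field F) (_ : Fintype F), Fintype.card F = 9 ∧ Nonempty (G ≃* PSU 3 F 3)
  · obtain ⟨F, _, _, hF, ⟨e⟩⟩ := h5
    exact Or.inr (Or.inr (Or.inl ⟨targetTwo_u3 (by decide) (by rw [hF]; norm_num) e, Or.inr hlow⟩))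
  exact absurd (h3 G hG h h1 h2 h3' h4 h5) hr

theorem verdict_res (h : IsOfRestrictedEvenType G) : Verdict G := Or.inl h

theorem verdict_gen (h : LpoExists 2 G (InGp 2)) : Verdict G := Or.inr (Or.inl h)

theorem verdict_b (h : InTargetTwo G) (h' : LpExists 2 G InBTwo) : Verdict G := Or.inr (Or.inr (Or.inl ⟨h, Or.inl h'⟩))

theorem verdict_low (h : InTargetTwo G) (h' : PRankLE 2 3 G) : Verdict G := Or.inr (Or.inr (Or.inl ⟨h, Or.inr h'⟩))

theorem three_le_of_odd {q : ℕ} (h : Odd q) (h1 : 1 < q) : 3 ≤ q := by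
  obtain ⟨k, rfl⟩ := h
  omega

theorem card_gt_one (F : Type) [Field F] [Fintype F] : 1 < Fintype.card F := Fintype.one_lt_card

theorem charP_two_of_even_sq {F : Type} [Field F] [Fintype F] {q k : ℕ} (hk : k ≠ 0) (h : Fintype.card F = q ^ k) :
    CharP F 2 ∨ Odd q := by
  rcases charP_two_or_odd F with h1 | h1
  · exact Or.inl h1
  · right
    rw [h] at h1
    rcases Nat.even_or_odd q with h2 | h2
    · exact absurd h1 (Nat.not_odd_iff_even.mpr ((Nat.even_pow' hk).mpr h2))
    · exact h2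

/-- alternating groups -/
theorem verdict_alt (T : Table.{u}) (h3 : RankThree.{u}) [hs : IsSimpleGroup G] (hG : ¬ IsMulCommutative G)
    (h : IsAlternating G) : Verdict G := by
  obtain ⟨n, hn, ⟨e⟩⟩ := h
  rcases Nat.lt_or_ge n 13 with h13 | h13
  · interval_cases n
    · exact verdict_two T h3 hG (chevSimple_of_pslTwoEven (pslTwoEven_a5 e))
    · exact verdict_low (targetTwo_a6 e) (T.low.alt G ⟨6, by norm_num, ⟨e⟩⟩)
    · exact verdict_low (Or.inr (Or.inr (Or.inr (Or.inr (Or.inl ⟨e⟩))))) (T.low.alt G ⟨7, by norm_num, ⟨e⟩⟩)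
    · exact verdict_two T h3 hG (chevSimple_a8 e)
    · exact Or.inr (Or.inr (Or.inr (Or.inl ⟨⟨9, by norm_num, by norm_num, ⟨e⟩⟩,
        T.altB G ⟨9, ⟨by norm_num, by norm_num⟩, ⟨e⟩⟩⟩)))
    · exact Or.inr (Or.inr (Or.inr (Or.inl ⟨⟨10, by norm_num, by norm_num, ⟨e⟩⟩,
        T.altB G ⟨10, ⟨by norm_num, by norm_num⟩, ⟨e⟩⟩⟩)))
    · exact Or.inr (Or.inr (Or.inr (Or.inl ⟨⟨11, by norm_num, by norm_num, ⟨e⟩⟩,
        T.altB G ⟨11, ⟨by norm_num, by norm_num⟩, ⟨e⟩⟩⟩)))
    · exact verdict_res (T.lie.a12 G ⟨12, rfl, ⟨e⟩⟩)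
  · exact verdict_gen (T.gen.alt G ⟨n, h13, ⟨e⟩⟩)

/-- `L_n(q)` -/
theorem verdict_psl (T : Table.{u}) (h3 : RankThree.{u}) [hs : IsSimpleGroup G] (hG : ¬ IsMulCommutative G)
    (h : IsPSL G) : Verdict G := by
  obtain ⟨F, _, _, n, hn, hq, ⟨e⟩⟩ := h
  rcases charP_two_or_odd F with hF | hF
  · exact verdict_two T h3 hG (Or.inl (Or.inl ⟨F, inferInstance, inferInstance, hF, n, hn, hq, ⟨e⟩⟩))
  rcases Nat.lt_or_ge n 5 with h5 | h5
  · interval_cases n
    · have hlow := T.low.psl2 G ⟨F, inferInstance, inferInstance, 2, hF, rfl, ⟨e⟩⟩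
      by_cases hc : Fintype.card F = 5
      · obtain ⟨f⟩ := S0253.result hc
        exact verdict_two T h3 hG (chevSimple_of_pslTwoEven (pslTwoEven_a5 (e.trans f)))
      · have h1 := hq rfl
        have h2 : 5 < Fintype.card F := by
          obtain ⟨k, hk⟩ := hF
          omega
        exact verdict_low (Or.inl ⟨F, inferInstance, inferInstance, hF, Or.inl ⟨h2, ⟨e⟩⟩⟩) hlow
    · exact verdict_low (Or.inl ⟨F, inferInstance, inferInstance, hF, Or.inr (Or.inl ⟨e⟩)⟩)
        (T.low.psl3 G ⟨F, inferInstance, inferInstance, 3, hF, rfl, ⟨e⟩⟩)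
    · by_cases h8 : Fintype.card F % 8 = 1
      · exact verdict_gen (T.gen.psl4 G ⟨F, inferInstance, inferInstance, 4, hF, ⟨rfl, h8⟩, ⟨e⟩⟩)
      · rcases (three_le_of_odd hF (card_gt_one F)).eq_or_lt with h4 | h4
        · exact verdict_res (T.lie.l43 G ⟨F, inferInstance, inferInstance, 4, hF, ⟨rfl, h4.symm⟩, ⟨e⟩⟩)
        · exact verdict_b (Or.inl ⟨F, inferInstance, inferInstance, hF,
            Or.inr (Or.inr (Or.inr (Or.inl ⟨h4, h8, ⟨e⟩⟩)))⟩)
            (T.b.psl4 G ⟨F, inferInstance, inferInstance, 4, hF, ⟨rfl, h4⟩, ⟨e⟩⟩)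
  · exact verdict_gen (T.gen.psl G ⟨F, inferInstance, inferInstance, n, hF, h5, ⟨e⟩⟩)

/-- `PSp_{2m}(q)` -/
theorem verdict_psp (T : Table.{u}) (h3 : RankThree.{u}) [hs : IsSimpleGroup G] (hG : ¬ IsMulCommutative G)
    (h : IsPSp G) : Verdict G := by
  obtain ⟨F, _, _, m, hm, hq, ⟨e⟩⟩ := h
  rcases charP_two_or_odd F with hF | hF
  · exact verdict_two T h3 hG (Or.inl (Or.inr (Or.inl ⟨F, inferInstance, inferInstance, hF, m, hm, hq, ⟨e⟩⟩)))
  rcases hm.eq_or_lt with h2 | h2
  · subst h2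
    rcases (three_le_of_odd hF (card_gt_one F)).eq_or_lt with h4 | h4
    · exact verdict_two T h3 hG (chevSimple_psp43 h4.symm e)
    · exact verdict_b (Or.inl ⟨F, inferInstance, inferInstance, hF, Or.inr (Or.inr (Or.inl ⟨h4, ⟨e⟩⟩))⟩)
        (T.b.psp4 G ⟨F, inferInstance, inferInstance, 2, hF, ⟨rfl, h4⟩, ⟨e⟩⟩)
  · exact verdict_gen (T.gen.psp G ⟨F, inferInstance, inferInstance, m, hF, h2, ⟨e⟩⟩)

/-- `U_n(q)` -/
theorem verdict_psu (T : Table.{u}) (h3 : RankThree.{u}) [hs : IsSimpleGroup G] (hG : ¬ IsMulCommutative G)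
    (h : IsPSU G) : Verdict G := by
  obtain ⟨F, _, _, n, q, hc, hn, hq, ⟨e⟩⟩ := h
  rcases charP_two_of_even_sq (k := 2) (by norm_num) hc with hF | hF
  · exact verdict_two T h3 hG (Or.inl (Or.inr (Or.inr (Or.inl ⟨F, inferInstance, inferInstance, hF, n, q, hc, hn, hq,
      ⟨e⟩⟩))))
  have hq1 : 1 < q := by
    have := card_gt_one F
    rw [hc] at this
    by_contra h
    interval_cases q <;> simp_all
  rcases Nat.lt_or_ge n 5 with h5 | h5
  · interval_cases n
    · exact verdict_low (targetTwo_u3 hF hc e)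
        (T.low.psu3 G ⟨F, inferInstance, inferInstance, 3, q, hF, hc, rfl, ⟨e⟩⟩)
    · by_cases h8 : q % 8 = 7
      · exact verdict_gen (T.gen.psu4 G ⟨F, inferInstance, inferInstance, 4, q, hF, hc, ⟨rfl, h8⟩, ⟨e⟩⟩)
      · rcases (three_le_of_odd hF hq1).eq_or_lt with h4 | h4
        · exact verdict_res (T.lie.u43 G ⟨F, inferInstance, inferInstance, 4, q, hF, hc, ⟨rfl, h4.symm⟩, ⟨e⟩⟩)
        · exact verdict_b (Or.inr (Or.inl ⟨F, inferInstance, inferInstance, q, hF, hc, Or.inr ⟨h4, h8, ⟨e⟩⟩⟩))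
            (T.b.psu4 G ⟨F, inferInstance, inferInstance, 4, q, hF, hc, ⟨rfl, h4⟩, ⟨e⟩⟩)
  · exact verdict_gen (T.gen.psu G ⟨F, inferInstance, inferInstance, n, q, hF, hc, h5, ⟨e⟩⟩)

/-- `PΩ_{2m+1}(q)` -/
theorem verdict_omegaOdd (T : Table.{u}) (h : IsPOmegaOdd G) : Verdict G := by
  obtain ⟨F, _, _, m, hm, hF, ⟨e⟩⟩ := h
  by_cases hc : m = 3 ∧ Fintype.card F = 3
  · exact verdict_res (T.lie.o73 G ⟨F, inferInstance, inferInstance, m, hF, hc, ⟨e⟩⟩)
  · exact verdict_gen (T.gen.omegaOdd G ⟨F, inferInstance, inferInstance, m, hF, ⟨hm, hc⟩, ⟨e⟩⟩)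

/-- `PΩ⁺_{2m}(q)` -/
theorem verdict_omegaPlus (T : Table.{u}) (h3 : RankThree.{u}) [hs : IsSimpleGroup G] (hG : ¬ IsMulCommutative G)
    (h : IsPOmegaPlus G) : Verdict G := by
  obtain ⟨F, _, _, m, hm, ⟨e⟩⟩ := h
  rcases charP_two_or_odd F with hF | hF
  · exact verdict_two T h3 hG (Or.inl (Or.inr (Or.inr (Or.inr (Or.inr (Or.inl ⟨F, inferInstance, inferInstance, hF, m,
      hm, ⟨e⟩⟩))))))
  by_cases hc : m = 4 ∧ Fintype.card F = 3
  · exact verdict_res (T.lie.o8p3 G ⟨F, inferInstance, inferInstance, m, hF, hc, ⟨e⟩⟩)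
  · exact verdict_gen (T.gen.omegaPlus G ⟨F, inferInstance, inferInstance, m, hF, ⟨hm, hc⟩, ⟨e⟩⟩)

/-- `PΩ⁻_{2m}(q)` -/
theorem verdict_omegaMinus (T : Table.{u}) (h3 : RankThree.{u}) [hs : IsSimpleGroup G] (hG : ¬ IsMulCommutative G)
    (h : IsPOmegaMinus G) : Verdict G := by
  obtain ⟨F, _, _, m, a, b, hm, hab, ⟨e⟩⟩ := h
  rcases charP_two_or_odd F with hF | hF
  · exact verdict_two T h3 hG (Or.inl (Or.inr (Or.inr (Or.inr (Or.inr (Or.inr (Or.inl ⟨F, inferInstance, inferInstance,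
      hF, m, a, b, hm, hab, ⟨e⟩⟩)))))))
  by_cases hc : m = 4 ∧ Fintype.card F = 3
  · exact verdict_res (T.lie.o8m3 G ⟨F, inferInstance, inferInstance, m, a, b, hF, hc, hab, ⟨e⟩⟩)
  · exact verdict_gen (T.gen.omegaMinus G ⟨F, inferInstance, inferInstance, m, a, b, hF, ⟨hm, hc⟩, hab, ⟨e⟩⟩)

/-- the exceptional groups -/
theorem verdict_exc (T : Table.{u}) (h3 : RankThree.{u}) [hs : IsSimpleGroup G] (hG : ¬ IsMulCommutative G)
    (h : IsExceptionalLieType G) : Verdict G := by
  have hch : ∀ (F : Type) [Field F] [Fintype F] [CharP F 2],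
      ((3 ≤ Fintype.card F ∧ Nonempty (G ≃* Lie.chevG2.group F)) ∨ Nonempty (G ≃* Lie.chevF4.group F) ∨
      Nonempty (G ≃* Lie.chevE6.group F) ∨ Nonempty (G ≃* Lie.chevE7.group F) ∨
      Nonempty (G ≃* Lie.chevE8.group F)) → Verdict G := fun F _ _ _ h =>
    verdict_two T h3 hG (Or.inl (Or.inr (Or.inr (Or.inr (Or.inr (Or.inr (Or.inr (Or.inl
      ⟨F, inferInstance, inferInstance, inferInstance, h⟩))))))))
  rcases h with ⟨F, _, _, hc, e⟩ | ⟨F, _, _, e⟩ | ⟨F, _, _, e⟩ | ⟨F, _, _, e⟩ | ⟨F, _, _, e⟩ |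
      ⟨K, _, _, q, hq, hc, e⟩ | ⟨K, _, _, q, hq, hc, e⟩ | h | h | h | h
  · rcases charP_two_or_odd F with hF | hF
    · exact hch F (Or.inl ⟨hc, e⟩)
    · rcases hc.eq_or_lt with h4 | h4
      · exact verdict_res (T.lie.g23 G ⟨F, inferInstance, inferInstance, hF, h4.symm, e⟩)
      · exact verdict_b (Or.inl ⟨F, inferInstance, inferInstance, hF, Or.inr (Or.inr (Or.inr (Or.inr ⟨h4, e⟩)))⟩)
          (T.b.g2 G ⟨F, inferInstance, inferInstance, hF, h4, e⟩)
  · rcases charP_two_or_odd F with hF | hF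
    · exact hch F (Or.inr (Or.inl e))
    · exact verdict_gen (T.gen.exc G ⟨F, inferInstance, inferInstance, hF, Or.inl e⟩)
  · rcases charP_two_or_odd F with hF | hF
    · exact hch F (Or.inr (Or.inr (Or.inl e)))
    · exact verdict_gen (T.gen.exc G ⟨F, inferInstance, inferInstance, hF, Or.inr (Or.inl e)⟩)
  · rcases charP_two_or_odd F with hF | hF
    · exact hch F (Or.inr (Or.inr (Or.inr (Or.inl e))))
    · exact verdict_gen (T.gen.exc G ⟨F, inferInstance, inferInstance, hF, Or.inr (Or.inr (Or.inl e))⟩)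
  · rcases charP_two_or_odd F with hF | hF
    · exact hch F (Or.inr (Or.inr (Or.inr (Or.inr e))))
    · exact verdict_gen (T.gen.exc G ⟨F, inferInstance, inferInstance, hF, Or.inr (Or.inr (Or.inr e))⟩)
  · rcases charP_two_of_even_sq (k := 2) (by norm_num) hc with hF | hF
    · exact verdict_two T h3 hG (Or.inl (Or.inr (Or.inr (Or.inr (Or.inr (Or.inr (Or.inr (Or.inr (Or.inl
        ⟨K, inferInstance, inferInstance, hF, q, hq, Or.inl ⟨hc, e⟩⟩)))))))))
    · exact verdict_gen (T.gen.twE6 G ⟨K, inferInstance, inferInstance, q, hF, hc, e⟩)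
  · rcases charP_two_of_even_sq (k := 3) (by norm_num) hc with hF | hF
    · exact verdict_two T h3 hG (Or.inl (Or.inr (Or.inr (Or.inr (Or.inr (Or.inr (Or.inr (Or.inr (Or.inl
        ⟨K, inferInstance, inferInstance, hF, q, hq, Or.inr ⟨hc, e⟩⟩)))))))))
    · exact verdict_b (Or.inr (Or.inr (Or.inl ⟨K, inferInstance, inferInstance, q, hF, hc, e⟩)))
        (T.b.d4 G ⟨K, inferInstance, inferInstance, q, hF, hc, e⟩)
  · exact verdict_two T h3 hG (Or.inl (Or.inr (Or.inr (Or.inr (Or.inr (Or.inr (Or.inr (Or.inr (Or.inr (Or.inl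
      ⟨rfl, h⟩))))))))))
  · exact verdict_low (Or.inr (Or.inr (Or.inr (Or.inl h)))) (T.low.ree G h)
  · exact verdict_two T h3 hG (Or.inl (Or.inr (Or.inr (Or.inr (Or.inr (Or.inr (Or.inr (Or.inr (Or.inr (Or.inr (Or.inl
      ⟨rfl, h⟩)))))))))))
  · exact verdict_two T h3 hG (Or.inr (Or.inl ⟨rfl, Or.inr (Or.inr h)⟩))

/-- the sporadic groups -/
theorem verdict_spor (T : Table.{u}) (h : IsSporadicGroup G) : Verdict G := by
  rcases h with h | h | h | h | h | h | h | h | h | h | h | h | h | h | h | h | h | h | h | h | h | h | h | h | h | h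
  · exact verdict_low (Or.inr (Or.inr (Or.inr (Or.inr (Or.inr (Or.inl h)))))) (T.low.m11 G h)
  · exact verdict_low (Or.inr (Or.inr (Or.inr (Or.inr (Or.inr (Or.inr (Or.inl h))))))) (T.low.m12 G h)
  · exact verdict_res (T.spor.m22 G h)
  · exact verdict_res (T.spor.m23 G h)
  · exact verdict_res (T.spor.m24 G h)
  · exact Or.inr (Or.inr (Or.inr (Or.inr ⟨T.low.j1 G h, T.two.j1 G h⟩)))
  · exact verdict_res (T.spor.j2 G h)
  · exact verdict_res (T.spor.j3 G h)
  · exact verdict_res (T.spor.j4 G h)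
  · exact verdict_res (T.spor.co1 G h)
  · exact verdict_res (T.spor.co2 G h)
  · exact verdict_res (T.spor.co3 G h)
  · exact verdict_b (Or.inr (Or.inr (Or.inr (Or.inr (Or.inr (Or.inr (Or.inr (Or.inl h)))))))) (T.b.mcl G h)
  · exact verdict_res (T.spor.hs G h)
  · exact verdict_res (T.spor.suz G h)
  · exact verdict_res (T.spor.he G h)
  · exact verdict_res (T.spor.ru G h)
  · exact verdict_low (Or.inr (Or.inr (Or.inr (Or.inr (Or.inr (Or.inr (Or.inr (Or.inr (Or.inr h)))))))))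
      (T.low.on G h)
  · exact verdict_b (Or.inr (Or.inr (Or.inr (Or.inr (Or.inr (Or.inr (Or.inr (Or.inr (Or.inl h))))))))) (T.b.ly G h)
  · exact verdict_res (T.spor.fi22 G h)
  · exact verdict_res (T.spor.fi23 G h)
  · exact verdict_res (T.spor.fi24 G h)
  · exact verdict_res (T.spor.hn G h)
  · exact verdict_res (T.spor.th G h)
  · exact verdict_res (T.spor.b G h)
  · exact verdict_res (T.spor.m G h)

/-- **The verdict on every known simple group.** -/
theorem verdict (T : Table.{u}) (h3 : RankThree.{u}) [hs : IsSimpleGroup G] (hG : ¬ IsMulCommutative G)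
    (h : IsKnownSimple' G) : Verdict G := by
  rcases h with h | h | h | h | h | h | h | h | h | h
  · exfalso
    apply hG
    have : Fact (Nat.card G).Prime := ⟨h⟩
    have hc : IsCyclic G := isCyclic_of_prime_card (p := Nat.card G) rfl
    exact ⟨⟨fun a b => (IsCyclic.commGroup (α := G)).mul_comm a b⟩⟩
  · exact verdict_alt T h3 hG h
  · exact verdict_psl T h3 hG h
  · exact verdict_psp T h3 hG h
  · exact verdict_psu T h3 hG h
  · exact verdict_omegaOdd T h
  · exact verdict_omegaPlus T h3 hG h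
  · exact verdict_omegaMinus T h3 hG h
  · exact verdict_exc T h3 hG h
  · exact verdict_spor T h

end Cfsg.Agent.SevenCases
end

-- part: Sigma/Frame
section
prune_inst 0x40000000000000000000000000000000200000000010000000000000000100002000002000b000000200000400400002000000000000400000000000000000000000000000000000000000000000000
set_option linter.all false
open scoped Cfsg.Agent.FastGrp

/-!
# S1804: the frame

Row formats: `W4 P` : the groups of type `P` satisfy `ETable.Wit p 4` for some odd prime `p`;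
`SigNe P` : the simple groups of type `P` have `σ(G) ≠ ∅`.

`s1804` : S1804 from the rows `WRows`, `SigRows`, the rows `TwoURows`, `GenRows`, `BRows` of `SevenCases/Rows.lean` and
the rows `NotResMore`, `BNotC` of `SigTab/RestList.lean`; `hF` says that the groups of Lie type in characteristic two have
`σ(G) ≠ ∅` as soon as they satisfy `ETable.Wit p 4` (`Sigma/CharTwo.lean`).
-/

set_option autoImplicit false

namespace Cfsg.Agent.Sigma.Frame

open Cfsg Cfsg.Agent.SevenCases Cfsg.Agent.SigTab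

universe u

/-- elementary abelian subgroups of order `p ^ 4` in 2-local subgroups -/
def W4 (P : ∀ (X : Type u) [Group X], Prop) : Prop :=
  ∀ (G : Type u) [Group G] [Finite G], P G → ∃ p, p.Prime ∧ p ≠ 2 ∧ ETable.Wit p 4 G

/-- `σ(G) ≠ ∅` -/
def SigNe (P : ∀ (X : Type u) [Group X], Prop) : Prop :=
  ∀ (G : Type u) [Group G] [Finite G] [IsSimpleGroup G], P G → sigmaSet G ≠ ∅

/-- The groups of Lie type in characteristic two outside `K⁽⁴⁾` and the Bender groups. -/
structure WRows : Prop where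
  psl : W4.{u} (fun X _ => PslEven (fun n q => 5 ≤ n ∧ (q = 2 → 8 ≤ n)) X)
  psu : W4.{u} (fun X _ => PsuEven (fun n q => 6 ≤ n ∧ (q = 2 → 7 ≤ n)) X)
  psp : W4.{u} (fun X _ => PspEven (fun m q => 4 ≤ m ∧ (q = 2 → 5 ≤ m)) X)
  omegaPlus : W4.{u} (fun X _ => OmegaPlusEven (fun m q => 4 ≤ m ∧ (q = 2 → 5 ≤ m)) X)
  omegaMinus : W4.{u} (fun X _ => OmegaMinusEven (fun m _ => 5 ≤ m) X)
  f4 : W4.{u} (fun X _ => FFourEven (fun q => 2 < q) X)
  e6 : W4.{u} (fun X _ => ESixEven X)
  e7 : W4.{u} (fun X _ => ESevenEven X)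
  e8 : W4.{u} (fun X _ => EEightEven X)
  twE6 : W4.{u} (fun X _ => TwESixEven (fun _ => True) X)

/-- The other groups of restricted even type outside `K⁽⁴⁾`. -/
structure SigRows : Prop where
  o73 : SigNe.{u} (fun X _ => OmegaOdd (fun m q => m = 3 ∧ q = 3) X)
  o8p3 : SigNe.{u} (fun X _ => OmegaPlusOdd (fun m q => m = 4 ∧ q = 3) X)
  o8m3 : SigNe.{u} (fun X _ => OmegaMinusOdd (fun m q => m = 4 ∧ q = 3) X)
  co1 : SigNe.{u} (fun X _ => Spor.IsoCo1 X)
  fi22 : SigNe.{u} (fun X _ => Spor.IsoFi22 X)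
  fi23 : SigNe.{u} (fun X _ => Spor.IsoFi23 X)
  fi24 : SigNe.{u} (fun X _ => Spor.IsoFi24' X)
  b : SigNe.{u} (fun X _ => Spor.IsoB X)
  m : SigNe.{u} (fun X _ => Spor.IsoM X)

theorem even_card_of_charP (F : Type) [Field F] [Fintype F] [CharP F 2] : Even (Fintype.card F) := by
  obtain ⟨n, hn1, hn⟩ := card_eq_two_pow (F := F) inferInstance
  rw [hn]
  exact even_two.pow_of_ne_zero (by omega)

theorem even_of_pow {q k : ℕ} (h : Even (q ^ k)) : Even q := by
  by_contra hq
  rw [Nat.not_even_iff_odd] at hq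
  exact (Nat.not_even_iff_odd.2 (hq.pow)) h

/-- `|F| = q ^ k` in characteristic two -/
theorem exists_two_pow {F : Type} [Field F] [Fintype F] [CharP F 2] {q k : ℕ} (hk : k ≠ 0)
    (hq : Fintype.card F = q ^ k) : ∃ n, 1 ≤ n ∧ q = 2 ^ n := by
  obtain ⟨m, hm1, hm⟩ := card_eq_two_pow (F := F) inferInstance
  have h1 : q ∣ 2 ^ m := by
    rw [← hm, hq]
    exact dvd_pow_self q hk
  obtain ⟨n, -, hn⟩ := (Nat.dvd_prime_pow Nat.prime_two).1 h1
  refine ⟨n, ?_, hn⟩
  rcases Nat.eq_zero_or_pos n with h0 | h0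
  · rw [h0, pow_zero] at hn
    have h2 := Fintype.one_lt_card (α := F)
    rw [hq, hn, one_pow] at h2
    omega
  · exact h0

/-- `A₈ ≅ L₄(2)` -/
theorem targetFour_a8 {G : Type u} [Group G] (e : G ≃* alternatingGroup (Fin 8)) : InTargetFour G := by
  have : Fact (Nat.Prime 2) := ⟨Nat.prime_two⟩
  obtain ⟨f⟩ := S0256.result (F := ZMod 2) (ZMod.card 2)
  exact Or.inl ⟨ZMod 2, inferInstance, inferInstance, 1, le_rfl, by rw [ZMod.card, pow_one],
    Or.inr (Or.inl ⟨e.trans f.symm⟩)⟩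

/-- **S1804 from the table.** -/
theorem s1804 (hF : ∀ (G : Type u) [Group G] [Finite G] [IsSimpleGroup G], ¬ IsMulCommutative G → IsLieTypeChar 2 G →
      ¬ Lie.IsoSuzuki G → ¬ Lie.Iso2F4 G → (∃ p, p.Prime ∧ p ≠ 2 ∧ ETable.Wit p 4 G) → sigmaSet G ≠ ∅)
    (hW : WRows.{u}) (hS : SigRows.{u}) (hU : TwoURows.{u}) (hG : GenRows.{u}) (hB : BRows.{u}) (hBC : BNotC.{u})
    (hN : NotResMore.{u}) {G : Type u} [Group G] [Finite G] [IsSimpleGroup G] (hk : IsKnownSimple' G)
    (hna : ¬ IsMulCommutative G) (hR : IsOfRestrictedEvenType G) (hQ : sigmaSet G = ∅)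
    (hnU : ¬ ∃ M : Subgroup G, IsTwoUniquenessSubgroup M) : InTargetFour G := by
  rcases restList hG hB hBC hN hk hna hR with h | h | h | h | h | h | h | h | h | h
  · rcases h with h | ⟨_, h⟩ | ⟨h, _⟩
    · -- groups of Lie type in characteristic two
      by_cases hsz : Lie.IsoSuzuki G
      · exact absurd (hU.sz G hsz) hnU
      by_cases hree : Lie.Iso2F4 G
      · exact Or.inr (Or.inr (Or.inr (Or.inl hree)))
      have key : ¬ ∃ p, p.Prime ∧ p ≠ 2 ∧ ETable.Wit p 4 G := fun hw => hF G hna h hsz hree hw hQ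
      rcases h with h | h | h | h | h | h | h | h | h | h | h
      · -- linear
        obtain ⟨F, iF, iFt, iC, n, hn, hq, ⟨e⟩⟩ := h
        obtain ⟨f, hf1, hf⟩ := card_eq_two_pow (F := F) iC
        have hev := even_card_of_charP F
        by_cases hn2 : n = 2
        · subst hn2
          refine absurd (hU.psl2 G ⟨F, iF, iFt, f, ?_, hf, ⟨e⟩⟩) hnU
          by_contra hf2
          have h1 : f = 1 := by omega
          rw [h1] at hf
          have := hq rfl
          omega
        · by_cases hn3 : n = 3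
          · subst hn3
            by_cases hf2 : 2 ≤ f
            · exact Or.inl ⟨F, iF, iFt, f, hf1, hf, Or.inl ⟨hf2, ⟨e⟩⟩⟩
            · exfalso
              have h1 : f = 1 := by omega
              rw [h1, pow_one] at hf
              have : Fact (Nat.Prime 7) := ⟨by norm_num⟩
              obtain ⟨g⟩ := S0255.result (F := ZMod 7) (K := F) (ZMod.card 7) hf
              exact hN.psl2 G ⟨ZMod 7, inferInstance, inferInstance, 2, by rw [ZMod.card]; decide, rfl,
                ⟨e.trans g.symm⟩⟩ hR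
          · by_cases hn4 : n = 4
            · subst hn4
              exact Or.inl ⟨F, iF, iFt, f, hf1, hf, Or.inr (Or.inl ⟨e⟩)⟩
            · by_cases hc : Fintype.card F = 2 ∧ n ≤ 7
              · have h5 : n = 5 ∨ n = 6 ∨ n = 7 := by omega
                refine Or.inr (Or.inr (Or.inr (Or.inr (Or.inr (Or.inl ⟨F, iF, iFt, hc.1, ?_⟩)))))
                rcases h5 with rfl | rfl | rfl
                · exact Or.inl ⟨e⟩
                · exact Or.inr (Or.inl ⟨e⟩)
                · exact Or.inr (Or.inr (Or.inl ⟨e⟩))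
              · exact absurd (hW.psl G ⟨F, iF, iFt, n, hev, ⟨by omega, by omega⟩, ⟨e⟩⟩) key
      · -- symplectic
        obtain ⟨F, iF, iFt, iC, m, hm, hq, ⟨e⟩⟩ := h
        obtain ⟨f, hf1, hf⟩ := card_eq_two_pow (F := F) iC
        have hev := even_card_of_charP F
        by_cases hm2 : m = 2
        · subst hm2
          refine Or.inl ⟨F, iF, iFt, f, hf1, hf, Or.inr (Or.inr (Or.inl ⟨?_, ⟨e⟩⟩))⟩
          by_contra hf2
          have h1 : f = 1 := by omega
          rw [h1] at hf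
          have := hq rfl
          omega
        · by_cases hm3 : m = 3
          · subst hm3
            exact Or.inl ⟨F, iF, iFt, f, hf1, hf, Or.inr (Or.inr (Or.inr (Or.inl ⟨e⟩)))⟩
          · by_cases hc : m = 4 ∧ Fintype.card F = 2
            · obtain ⟨rfl, hc⟩ := hc
              exact Or.inr (Or.inr (Or.inr (Or.inr (Or.inr (Or.inl ⟨F, iF, iFt, hc,
                Or.inr (Or.inr (Or.inr (Or.inl ⟨e⟩)))⟩)))))
            · exact absurd (hW.psp G ⟨F, iF, iFt, m, hev, ⟨by omega, by omega⟩, ⟨e⟩⟩) key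
      · -- unitary
        obtain ⟨F, iF, iFt, iC, n, q, hFq, hn, hq, ⟨e⟩⟩ := h
        obtain ⟨f, hf1, rfl⟩ := exists_two_pow (F := F) two_ne_zero hFq
        have hev : Even (2 ^ f) := even_two.pow_of_ne_zero (by omega)
        by_cases hn3 : n = 3
        · subst hn3
          refine absurd (hU.psu3 G ⟨F, iF, iFt, f, ?_, hFq, ⟨e⟩⟩) hnU
          by_contra hf2
          have h1 : f = 1 := by omega
          apply hq
          rw [h1]
          exact ⟨rfl, rfl⟩
        · by_cases hn4 : n = 4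
          · subst hn4
            exact Or.inr (Or.inl ⟨F, iF, iFt, f, hf1, hFq, Or.inl ⟨e⟩⟩)
          · by_cases hn5 : n = 5
            · subst hn5
              exact Or.inr (Or.inl ⟨F, iF, iFt, f, hf1, hFq, Or.inr ⟨e⟩⟩)
            · by_cases hc : n = 6 ∧ 2 ^ f = 2
              · obtain ⟨rfl, hc⟩ := hc
                rw [hc] at e hFq
                exact Or.inr (Or.inr (Or.inr (Or.inr (Or.inr (Or.inr (Or.inl ⟨F, iF, iFt, by rw [hFq]; norm_num,
                  ⟨e⟩⟩))))))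
              · exact absurd (hW.psu G ⟨F, iF, iFt, n, 2 ^ f, hev, hFq, ⟨by omega, by omega⟩, ⟨e⟩⟩) key
      · -- odd-dimensional orthogonal
        obtain ⟨F, iF, iFt, iC, m, hm, hq, ⟨e⟩⟩ := h
        exact absurd (even_card_of_charP F) (Nat.not_even_iff_odd.2 hq)
      · -- orthogonal of plus type
        obtain ⟨F, iF, iFt, iC, m, hm, ⟨e⟩⟩ := h
        have hev := even_card_of_charP F
        by_cases hc : m = 4 ∧ Fintype.card F = 2
        · obtain ⟨rfl, hc⟩ := hc
          exact Or.inr (Or.inr (Or.inr (Or.inr (Or.inr (Or.inl ⟨F, iF, iFt, hc,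
            Or.inr (Or.inr (Or.inr (Or.inr (Or.inl ⟨e⟩))))⟩)))))
        · exact absurd (hW.omegaPlus G ⟨F, iF, iFt, m, hev, ⟨hm, by omega⟩, ⟨e⟩⟩) key
      · -- orthogonal of minus type
        obtain ⟨F, iF, iFt, iC, m, a, b, hm, hab, ⟨e⟩⟩ := h
        obtain ⟨f, hf1, hf⟩ := card_eq_two_pow (F := F) iC
        have hev := even_card_of_charP F
        by_cases hm4 : m = 4
        · subst hm4
          exact Or.inl ⟨F, iF, iFt, f, hf1, hf, Or.inr (Or.inr (Or.inr (Or.inr (Or.inr ⟨a, b, hab, ⟨e⟩⟩))))⟩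
        · exact absurd (hW.omegaMinus G ⟨F, iF, iFt, m, a, b, hev, by omega, hab, ⟨e⟩⟩) key
      · -- exceptional
        obtain ⟨F, iF, iFt, iC, h⟩ := h
        obtain ⟨f, hf1, hf⟩ := card_eq_two_pow (F := F) iC
        have hev := even_card_of_charP F
        rcases h with ⟨h3, ⟨e⟩⟩ | ⟨⟨e⟩⟩ | ⟨⟨e⟩⟩ | ⟨⟨e⟩⟩ | ⟨⟨e⟩⟩
        · refine Or.inl ⟨F, iF, iFt, f, hf1, hf, Or.inr (Or.inr (Or.inr (Or.inr (Or.inl ⟨?_, ⟨e⟩⟩))))⟩
          by_contra hf2
          have h1 : f = 1 := by omega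
          rw [h1] at hf
          omega
        · by_cases hc : Fintype.card F = 2
          · exact Or.inr (Or.inr (Or.inr (Or.inr (Or.inr (Or.inl ⟨F, iF, iFt, hc,
              Or.inr (Or.inr (Or.inr (Or.inr (Or.inr ⟨e⟩))))⟩)))))
          · have h2 := Fintype.one_lt_card (α := F)
            exact absurd (hW.f4 G ⟨F, iF, iFt, hev, by omega, ⟨e⟩⟩) key
        · exact absurd (hW.e6 G ⟨F, iF, iFt, hev, ⟨e⟩⟩) key
        · exact absurd (hW.e7 G ⟨F, iF, iFt, hev, ⟨e⟩⟩) key
        · exact absurd (hW.e8 G ⟨F, iF, iFt, hev, ⟨e⟩⟩) key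
      · -- twisted
        obtain ⟨K, iK, iKt, iC, q, hpp, h⟩ := h
        have hev := even_card_of_charP K
        rcases h with ⟨hKq, ⟨e⟩⟩ | ⟨hKq, ⟨e⟩⟩
        · exact absurd (hW.twE6 G ⟨K, iK, iKt, q, even_of_pow (k := 2) (hKq ▸ hev), hKq, trivial, ⟨e⟩⟩) key
        · obtain ⟨f, hf1, rfl⟩ := exists_two_pow (F := K) three_ne_zero hKq
          exact Or.inr (Or.inr (Or.inl ⟨K, iK, iKt, f, hf1, hKq, ⟨e⟩⟩))
      · exact absurd h.2 hsz
      · exact absurd h.2 hree
      · exact absurd h.1 (by norm_num)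
    · rcases h with ⟨⟨e⟩⟩ | ⟨F, iF, iFt, hc, ⟨e⟩⟩ | h
      · exact absurd hR (hN.alt G ⟨6, ⟨by norm_num, by norm_num⟩, ⟨e⟩⟩)
      · exact absurd hR (hN.psu3 G ⟨F, iF, iFt, 3, 3, by decide, hc, rfl, ⟨e⟩⟩)
      · exact Or.inr (Or.inr (Or.inr (Or.inr (Or.inl h))))
    · exact absurd h (by norm_num)
  · -- A₈
    obtain ⟨n, rfl, ⟨e⟩⟩ := h
    exact targetFour_a8 e
  · -- A₁₂
    obtain ⟨n, rfl, e⟩ := h
    exact Or.inr (Or.inr (Or.inr (Or.inr (Or.inr (Or.inr (Or.inr (Or.inr (Or.inr (Or.inl e)))))))))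
  · -- L₄(3)
    obtain ⟨F, iF, iFt, n, ho, ⟨rfl, hc⟩, e⟩ := h
    exact Or.inr (Or.inr (Or.inr (Or.inr (Or.inr (Or.inr (Or.inr (Or.inl ⟨F, iF, iFt, hc, Or.inl e⟩)))))))
  · -- U₄(3)
    obtain ⟨F, iF, iFt, n, q, ho, hFq, ⟨rfl, rfl⟩, e⟩ := h
    exact Or.inr (Or.inr (Or.inr (Or.inr (Or.inr (Or.inr (Or.inr (Or.inr (Or.inl
      ⟨F, iF, iFt, by rw [hFq]; norm_num, e⟩))))))))
  · -- G₂(3)
    obtain ⟨F, iF, iFt, ho, hc, e⟩ := h
    exact Or.inr (Or.inr (Or.inr (Or.inr (Or.inr (Or.inr (Or.inr (Or.inl ⟨F, iF, iFt, hc, Or.inr e⟩)))))))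
  · exact absurd hQ (hS.o73 G h)
  · exact absurd hQ (hS.o8p3 G h)
  · exact absurd hQ (hS.o8m3 G h)
  · rcases h with h | h | h | h | h | h | h | h | h | h | h | h | h | h | h | h | h | h | h | h
    · unfold InTargetFour; (clear * - h; (solve | repeat (first | with_reducible assumption | exact Or.inl (by with_reducible assumption) | refine Or.inr ?_) | tauto))
    · unfold InTargetFour; (clear * - h; (solve | repeat (first | with_reducible assumption | exact Or.inl (by with_reducible assumption) | refine Or.inr ?_) | tauto))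
    · unfold InTargetFour; (clear * - h; (solve | repeat (first | with_reducible assumption | exact Or.inl (by with_reducible assumption) | refine Or.inr ?_) | tauto))
    · unfold InTargetFour; (clear * - h; (solve | repeat (first | with_reducible assumption | exact Or.inl (by with_reducible assumption) | refine Or.inr ?_) | tauto))
    · unfold InTargetFour; (clear * - h; (solve | repeat (first | with_reducible assumption | exact Or.inl (by with_reducible assumption) | refine Or.inr ?_) | tauto))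
    · unfold InTargetFour; (clear * - h; (solve | repeat (first | with_reducible assumption | exact Or.inl (by with_reducible assumption) | refine Or.inr ?_) | tauto))
    · unfold InTargetFour; (clear * - h; (solve | repeat (first | with_reducible assumption | exact Or.inl (by with_reducible assumption) | refine Or.inr ?_) | tauto))
    · unfold InTargetFour; (clear * - h; (solve | repeat (first | with_reducible assumption | exact Or.inl (by with_reducible assumption) | refine Or.inr ?_) | tauto))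
    · unfold InTargetFour; (clear * - h; (solve | repeat (first | with_reducible assumption | exact Or.inl (by with_reducible assumption) | refine Or.inr ?_) | tauto))
    · unfold InTargetFour; (clear * - h; (solve | repeat (first | with_reducible assumption | exact Or.inl (by with_reducible assumption) | refine Or.inr ?_) | tauto))
    · exact absurd hQ (hS.co1 G h)
    · unfold InTargetFour; (clear * - h; (solve | repeat (first | with_reducible assumption | exact Or.inl (by with_reducible assumption) | refine Or.inr ?_) | tauto))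
    · unfold InTargetFour; (clear * - h; (solve | repeat (first | with_reducible assumption | exact Or.inl (by with_reducible assumption) | refine Or.inr ?_) | tauto))
    · exact absurd hQ (hS.fi22 G h)
    · exact absurd hQ (hS.fi23 G h)
    · exact absurd hQ (hS.fi24 G h)
    · unfold InTargetFour; (clear * - h; (solve | repeat (first | with_reducible assumption | exact Or.inl (by with_reducible assumption) | refine Or.inr ?_) | tauto))
    · unfold InTargetFour; (clear * - h; (solve | repeat (first | with_reducible assumption | exact Or.inl (by with_reducible assumption) | refine Or.inr ?_) | tauto))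
    · exact absurd hQ (hS.b G h)
    · exact absurd hQ (hS.m G h)

end Cfsg.Agent.Sigma.Frame
end
end
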