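import Cfsg.Agent.BiChar.SmallTools_m3
import Cfsg.Prelude.Def_SporadicB
import Cfsg.Agent.CoOneType.CoEval
import Cfsg.Agent.CoOneType.ClosingCo1
import Cfsg.Agent.CoOneType.FrameFix
import Cfsg.Agent.S0399
import Cfsg.Agent.MonsterU.Chart
import Cfsg.Agent.MonsterU.ModelChart
import Cfsg.Agent.MonsterU.Uncond
import Cfsg.Agent.H850.MonSub
import Cfsg.Agent.Sigma.USix
import Cfsg.Agent.S1684
import Cfsg.Agent.S1687
import Cfsg.Agent.S1688
import Cfsg.Agent.S1689
import Cfsg.Agent.Co2Type.Quad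
import Cfsg.Agent.KFacts.FiTF.RQ
import Cfsg.Agent.KFacts.FiTF.FrameF
import Cfsg.Agent.CoOneType.CoAp
import Cfsg.Agent.CoOneType.CoQ
import Cfsg.Agent.CoOneType.CoW
import Cfsg.Agent.FastGrp
import Cfsg.Agent.Prune
set_option linter.all false
prune_inst 0x7f00000000000000000000000000000000000000000000000000000000000000000000000000000000000000000000000000000000000000000000000000000000000000000000000000000000000000003fffffffffffffffffffffffffffbeffbdffffffff
open scoped Cfsg.Agent.FastGrp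

/-- decoders of the packed data (elaboration time only) -/
private noncomputable def pk61d (b S i : Nat) : Nat := Nat.mod (Nat.shiftRight S (Nat.mul b i)) (Nat.shiftLeft (nat_lit 1) b)
private noncomputable def pk61c {α : Type} (t : Nat) (a : α) (f : Nat → α) : α := Nat.rec a (fun k _ => f k) t
private noncomputable def pk61f {α : Type} (t : Nat) (f : Nat → α) : α := Nat.rec (f Nat.zero) (fun k _ => f (Nat.succ k)) t
private noncomputable def pk61z (t : Nat) : Int := pk61f t fun t =>
  pk61c (Nat.mod t (nat_lit 2)) (Int.ofNat (Nat.div t (nat_lit 2))) fun _ => Int.negSucc (Nat.div t (nat_lit 2))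
private noncomputable def pk61l {α : Type} (f : Nat → α) (s e : Nat) (tl : List α) : List α :=
  pk61f e fun e => Nat.rec tl (fun k ih => List.cons (pk61f (Nat.sub e (Nat.succ k)) f) ih) (Nat.sub e s)

-- part: Sigma/Cover
section
-- merged: Cfsg.Agent.Sigma.TwoCentral
section

/-!
# 2-central elements from an invariant set of odd order
-/

set_option autoImplicit false

namespace Cfsg.Agent.Sigma.Tools

open Cfsg Subgroup

/-- A 2-group normalizing a set of odd order centralizes some element of it. -/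
theorem exists_fixed_of_odd {G : Type*} [Group G] [Finite G] {S : Subgroup G} (hS : IsPGroup 2 ↥S) (X : Set G)
    (hX : ¬ 2 ∣ Nat.card ↥X) (hinv : ∀ s ∈ S, ∀ x ∈ X, s * x * s⁻¹ ∈ X) :
    ∃ x ∈ X, S ≤ centralizer ({x} : Set G) := by
  have : Fact (Nat.Prime 2) := ⟨Nat.prime_two⟩
  let _ : MulAction ↥S ↥X :=
    { smul := fun s x => ⟨s * x * (s : G)⁻¹, hinv s s.2 x x.2⟩
      one_smul := fun x => Subtype.ext (by
        change ((1 : ↥S) : G) * x * ((1 : ↥S) : G)⁻¹ = x
        simp)
      mul_smul := fun s t x => Subtype.ext (by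
        change ((s * t : ↥S) : G) * x * ((s * t : ↥S) : G)⁻¹ = s * (t * x * (t : G)⁻¹) * (s : G)⁻¹
        rw [Subgroup.coe_mul]
        group) }
  have h1 := hS.card_modEq_card_fixedPoints ↥X
  have h2 : 0 < Nat.card (MulAction.fixedPoints ↥S ↥X) := by
    rcases Nat.eq_zero_or_pos (Nat.card (MulAction.fixedPoints ↥S ↥X)) with h0 | h0
    · rw [h0] at h1
      exact absurd ((Nat.modEq_zero_iff_dvd).1 h1) hX
    · exact h0
  obtain ⟨⟨x, hx⟩⟩ : Nonempty (MulAction.fixedPoints ↥S ↥X) := by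
    by_contra hcon
    rw [not_nonempty_iff] at hcon
    rw [Nat.card_of_isEmpty] at h2
    omega
  refine ⟨x, x.2, fun s hs => ?_⟩
  rw [mem_centralizer_singleton_iff]
  have h3 := congrArg Subtype.val (hx ⟨s, hs⟩)
  change s * (x : G) * s⁻¹ = x at h3
  rw [mul_inv_eq_iff_eq_mul] at h3
  exact h3

/-- the index of the centralizer of a 2-central element is odd -/
theorem not_dvd_index {G : Type*} [Group G] [Finite G] {z x : G} (h : IsConj z x) (S : Sylow 2 G)
    (hS : (S : Subgroup G) ≤ centralizer ({x} : Set G)) : ¬ 2 ∣ (centralizer ({z} : Set G)).index := by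
  have : Fact (Nat.Prime 2) := ⟨Nat.prime_two⟩
  obtain ⟨g, hg⟩ := isConj_iff.1 h
  have h1 : centralizer ({x} : Set G) = (centralizer ({z} : Set G)).map (MulAut.conj g).toMonoidHom := by
    ext y
    rw [mem_centralizer_singleton_iff, Subgroup.mem_map_equiv, mem_centralizer_singleton_iff, ← hg]
    have h2 : (MulAut.conj g).symm y = g⁻¹ * y * g := by simp [MulAut.conj_symm_apply]
    rw [h2]
    constructor
    · intro h3
      calc g⁻¹ * y * g * z = g⁻¹ * (y * (g * z * g⁻¹)) * g := by group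
        _ = g⁻¹ * (g * z * g⁻¹ * y) * g := by rw [h3]
        _ = z * (g⁻¹ * y * g) := by group
    · intro h3
      calc y * (g * z * g⁻¹) = g * (g⁻¹ * y * g * z) * g⁻¹ := by group
        _ = g * (z * (g⁻¹ * y * g)) * g⁻¹ := by rw [h3]
        _ = g * z * g⁻¹ * y := by group
  have h2 : (centralizer ({x} : Set G)).index = (centralizer ({z} : Set G)).index := by
    rw [h1]
    exact Subgroup.index_map_equiv _ (MulAut.conj g)
  rw [← h2]
  intro h3
  exact S.not_dvd_index (h3.trans (index_dvd_of_le hS))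

end Cfsg.Agent.Sigma.Tools

end

-- merged: Cfsg.Agent.Sigma.Cover
section

/-!
# Witnesses from double covers of small index
-/

set_option autoImplicit false

namespace Cfsg.Agent.Sigma.Tools

open Cfsg Subgroup

/-- the `p`-rank of a double cover, `p` odd -/
theorem rank_of_cover {K X : Type*} [Group K] [Finite K] [Group X] {p k : ℕ} (hp : p.Prime) (hp2 : p ≠ 2)
    (h : IsNonsplitDoubleCover K X) (hX : PRankAtLeast p k X) : PRankAtLeast p k K := by
  have : Fact p.Prime := ⟨hp⟩
  obtain ⟨hc, ⟨e⟩, -⟩ := h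
  have hk : (e.toMonoidHom.comp (QuotientGroup.mk' (center K))).ker = center K := by
    ext x
    rw [MonoidHom.mem_ker, MonoidHom.comp_apply]
    change e _ = 1 ↔ _
    rw [EmbeddingLike.map_eq_one_iff, QuotientGroup.mk'_apply, QuotientGroup.eq_one_iff]
  refine pRankAtLeast_of_surjective (e.toMonoidHom.comp (QuotientGroup.mk' (center K)))
    (e.surjective.comp (QuotientGroup.mk'_surjective _)) ?_ hX
  rw [hk, hc]
  intro h2
  exact hp2 ((Nat.prime_dvd_prime_iff_eq hp Nat.prime_two).1 h2)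

/-- **A double cover, of index not divisible by four, of a group of `p`-rank at least four.** -/
theorem wit_of_cover {G X : Type*} [Group G] [Finite G] [Group X] {p : ℕ} (hp : p.Prime) (hp2 : p ≠ 2)
    (K : Subgroup G) (h : IsNonsplitDoubleCover ↥K X) (hX : PRankAtLeast p 4 X) (hidx : ¬ 4 ∣ K.index) : Wit p G := by
  have hr := rank_of_cover hp hp2 h hX
  obtain ⟨hc, -, -⟩ := h
  have : Nontrivial ↥(center ↥K) := by
    rw [← Finite.one_lt_card_iff_nontrivial, hc]
    norm_num
  obtain ⟨z, hz⟩ := exists_ne (1 : ↥(center ↥K))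
  have hz2 : z ^ 2 = 1 := by rw [← hc, pow_card_eq_one']
  have hle : K ≤ centralizer ({((z : ↥K) : G)} : Set G) := by
    intro g hg
    rw [mem_centralizer_singleton_iff]
    have h1 := mem_center_iff.1 z.2 ⟨g, hg⟩
    exact congrArg Subtype.val h1
  refine wit_of_centralizer (z := ((z : ↥K) : G)) ?_ ?_ ?_ ?_
  · intro h1
    apply hz
    exact Subtype.ext (Subtype.ext h1)
  · have h1 := congrArg (fun y : ↥(center ↥K) => ((y : ↥K) : G)) hz2
    exact h1
  · intro h1
    exact hidx (h1.trans (index_dvd_of_le hle))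
  · exact pRankAtLeast_of_injective (inclusion hle) (inclusion_injective hle) hr

/-- **`Wit` from a homomorphism of the centralizer of an involution onto a group of `p`-rank at least four.** -/
theorem wit_of_map {G X : Type*} [Group G] [Finite G] [Group X] {p : ℕ} (hp : p.Prime) {z : G} (hz1 : z ≠ 1)
    (hz2 : z ^ 2 = 1) (f : ↥(centralizer ({z} : Set G)) →* X) (hf : Function.Surjective f)
    (hk : ¬ p ∣ Nat.card f.ker) (hX : PRankAtLeast p 4 X) (hidx : ¬ 4 ∣ (centralizer ({z} : Set G)).index) :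
    Wit p G := by
  have : Fact p.Prime := ⟨hp⟩
  exact wit_of_centralizer hz1 hz2 hidx (pRankAtLeast_of_surjective f hf hk hX)

end Cfsg.Agent.Sigma.Tools

end
end

-- part: Sigma/CoOneMat
section
/-!
# An elementary abelian group of order 81 in the centralizer of an octad involution of `Co₁`: the matrices

Four elements of `Co₀` (24 × 24 integer matrices divided by 8), of order three, which commute with each other and with the
sign change on an octad.  Generated by a script; checked by the kernel.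
-/

set_option autoImplicit false
set_option maxRecDepth 100000

namespace Cfsg.Agent.Sigma.CoOneMat

open Cfsg Cfsg.Agent.SporadicStructure.Co0Matrix Cfsg.Agent.CoOneType.CoEval

/-- rows of `a` -/
def rA : List (List ℤ) :=
  (by
  refine (?fq9001 : ((pk61l (fun i1 => (pk61l (fun i2 => (pk61z (pk61d (nat_lit 4) 
    (nat_lit 0xc430) (pk61d (nat_lit 2) 
    (nat_lit 0x9699544918006a69a449280069999446140059a568491400666a584514009a9aa8452400aa59688a14005656a44a14006a9698891800659a684a2800aaa6544a24000000022042aea95664451800000001308159a5aaa48914005aaa6486180000000220c2a6669564852400595a548924000000011083590000011081d900000110817900000310815900000110815b) i2)))) (Nat.mul (nat_lit 24) i1) (Nat.mul (nat_lit 24) (Nat.succ i1)) List.nil)) (nat_lit 0) (nat_lit 24) List.nil) : List (List ℤ))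
    = ?xq9001 → (List (List ℤ))) ?hq9001; (case hq9001 => (set_option maxRecDepth 1000000 in conv => lhs; reduce)); intro _; exact ?xq9001 : List (List ℤ))

/-- columns of `a` -/
def cA : List (List ℤ) :=
  (by
  refine (?fq9002 : ((pk61l (fun i1 => (pk61l (fun i2 => (pk61z (pk61d (nat_lit 4) 
    (nat_lit 0xc430) (pk61d (nat_lit 2) 
    (nat_lit 0x9569588914006999a88924006a6998861800a5aa984624009a65a84a24006695584a1400a9a9644a180055a6a88a1800696694491400666a648a240056a9a445140000000210815d5559944a2800000002308155a65aa8491800595a6846140000000120c2aa656568452800a555a48614000000021083550000021081d50000021081750000032042aa000002108157) i2)))) (Nat.mul (nat_lit 24) i1) (Nat.mul (nat_lit 24) (Nat.succ i1)) List.nil)) (nat_lit 0) (nat_lit 24) List.nil) : List (List ℤ))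
    = ?xq9002 → (List (List ℤ))) ?hq9002; (case hq9002 => (set_option maxRecDepth 1000000 in conv => lhs; reduce)); intro _; exact ?xq9002 : List (List ℤ))

/-- rows of `b` -/
def rB : List (List ℤ) :=
  (by
  refine (?fq9003 : ((pk61l (fun i1 => (pk61l (fun i2 => (pk61z (pk61d (nat_lit 4) 
    (nat_lit 0x4343444333403043034000003433334344403043044000004343333434304043044000004443344443404034044000003443334433303033033000003444333333404044034000004433344334304044033000003343343444403044033000003433443443304043034000003444444434303044044000003344344344304033034000000000000000040400300433b34434343434403033034000000000000000030c00400344344444434444404043033000003333434434404034034000000000000000040400c00433433443443334404033043000003334344433404043043000000000000000030300400c443400000000000404003004c343000000000004040030043c4300000000000b04003004334300000000000404003004334c) i2))) (Nat.mul (nat_lit 24) i1) (Nat.mul (nat_lit 24) (Nat.succ i1)) List.nil)) (nat_lit 0) (nat_lit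 24) List.nil) : List (List ℤ))
    = ?xq9003 → (List (List ℤ))) ?hq9003; (case hq9003 => (set_option maxRecDepth 1000000 in conv => lhs; reduce)); intro _; exact ?xq9003 : List (List ℤ))

/-- columns of `b` -/
def cB : List (List ℤ) :=
  (by
  refine (?fq9004 : ((pk61l (fun i1 => (pk61l (fun i2 => (pk61z (pk61d (nat_lit 4) 
    (nat_lit 0x4344334333304043033000003434444344304043043000004344443434403043043000003333343334404043034000004333333344303044043000004334334444404033044000004434434334403044034000003344433444304044034000003434333443403043033000003443334434404044043000004434343433304044044000000000000000040300400344b43344344343403044044000000000000000040c00400344444443344444303043034000003334344434303034033000000000000000030400c00433333444333334303033044000004444343344404034033000000000000000040300400c444400000000000304003004c333000000000003040030043c3300000000000b03004003444400000000000304003004333c) i2))) (Nat.mul (nat_lit 24) i1) (Nat.mul (nat_lit 24) (Nat.succ i1))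 List.nil)) (nat_lit 0) (nat_lit 24) List.nil) : List (List ℤ))
    = ?xq9004 → (List (List ℤ))) ?hq9004; (case hq9004 => (set_option maxRecDepth 1000000 in conv => lhs; reduce)); intro _; exact ?xq9004 : List (List ℤ))

/-- rows of `c` -/
def rC : List (List ℤ) :=
  (by
  refine (?fq9005 : ((pk61l (fun i1 => (pk61l (fun i2 => (pk61z (pk61d (nat_lit 5) 
    (nat_lit 0x41e0) (pk61d (nat_lit 2) 
    (nat_lit 0x40000000400000000000080000000000002000000000000000400000000008000000000000020000000000080000200000000000000200000000020000000000000002000000000000000800000000004000000020000000000000001000000000000100000400000000004000000000000000200000000000000080000000000020000000000008000000000002) i2)))) (Nat.mul (nat_lit 24) i1) (Nat.mul (nat_lit 24) (Nat.succ i1)) List.nil)) (nat_lit 0) (nat_lit 24) List.nil) : List (List ℤ))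
    = ?xq9005 → (List (List ℤ))) ?hq9005; (case hq9005 => (set_option maxRecDepth 1000000 in conv => lhs; reduce)); intro _; exact ?xq9005 : List (List ℤ))

/-- columns of `c` -/
def cC : List (List ℤ) :=
  (by
  refine (?fq9006 : ((pk61l (fun i1 => (pk61l (fun i2 => (pk61z (pk61d (nat_lit 5) 
    (nat_lit 0x41e0) (pk61d (nat_lit 2) 
    (nat_lit 0x100000000000000080000000080000000000000008000000000000000400020000000000000000001000000020000000400000000000000000080000002000000000000002000000004000000000000000000200000200000000000800000000000000100000000000010000000000800000000000004000000000000080000000000020000000000008000000000002) i2)))) (Nat.mul (nat_lit 24) i1) (Nat.mul (nat_lit 24) (Nat.succ i1)) List.nil)) (nat_lit 0) (nat_lit 24) List.nil) : List (List ℤ))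
    = ?xq9006 → (List (List ℤ))) ?hq9006; (case hq9006 => (set_option maxRecDepth 1000000 in conv => lhs; reduce)); intro _; exact ?xq9006 : List (List ℤ))

/-- rows of `d` -/
def rD : List (List ℤ) :=
  (by
  refine (?fq9007 : ((pk61l (fun i1 => (pk61l (fun i2 => (pk61z (pk61d (nat_lit 5) 
    (nat_lit 0x41e0) (pk61d (nat_lit 2) 
    (nat_lit 0x10000000800000000080000000000000008000000000000400000020000000000000100000000100000000000000000001000000040000000002000000000000002000000000000000800000000200000800000000000000000040000000000008000000020000000004000000000000000000200000000000020000000000002000000000008000000000080) i2)))) (Nat.mul (nat_lit 24) i1) (Nat.mul (nat_lit 24) (Nat.succ i1)) List.nil)) (nat_lit 0) (nat_lit 24) List.nil) : List (List ℤ))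
    = ?xq9007 → (List (List ℤ))) ?hq9007; (case hq9007 => (set_option maxRecDepth 1000000 in conv => lhs; reduce)); intro _; exact ?xq9007 : List (List ℤ))

/-- columns of `d` -/
def cD : List (List ℤ) :=
  (by
  refine (?fq9008 : ((pk61l (fun i1 => (pk61l (fun i2 => (pk61z (pk61d (nat_lit 5) 
    (nat_lit 0x41e0) (pk61d (nat_lit 2) 
    (nat_lit 0x80000000100000000080000000000002000000000000000000400000008000000200000000000000400000000000010000000000000002000020000000000000002000000004000000000000000200000000000010000400000000000000000008000000040000000000000800000000000000200000000000002000000000080000000000008000000000020) i2)))) (Nat.mul (nat_lit 24) i1) (Nat.mul (nat_lit 24) (Nat.succ i1)) List.nil)) (nat_lit 0) (nat_lit 24) List.nil) : List (List ℤ))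
    = ?xq9008 → (List (List ℤ))) ?hq9008; (case hq9008 => (set_option maxRecDepth 1000000 in conv => lhs; reduce)); intro _; exact ?xq9008 : List (List ℤ))

/-- the sign change on the octad -/
def rZ : List (List ℤ) := [
  [-8, 0, 0, 0, 0, 0, 0, 0, 0, 0, 0, 0, 0, 0, 0, 0, 0, 0, 0, 0, 0, 0, 0, 0],
  [0, -8, 0, 0, 0, 0, 0, 0, 0, 0, 0, 0, 0, 0, 0, 0, 0, 0, 0, 0, 0, 0, 0, 0],
  [0, 0, -8, 0, 0, 0, 0, 0, 0, 0, 0, 0, 0, 0, 0, 0, 0, 0, 0, 0, 0, 0, 0, 0],
  [0, 0, 0, -8, 0, 0, 0, 0, 0, 0, 0, 0, 0, 0, 0, 0, 0, 0, 0, 0, 0, 0, 0, 0],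
  [0, 0, 0, 0, -8, 0, 0, 0, 0, 0, 0, 0, 0, 0, 0, 0, 0, 0, 0, 0, 0, 0, 0, 0],
  [0, 0, 0, 0, 0, 8, 0, 0, 0, 0, 0, 0, 0, 0, 0, 0, 0, 0, 0, 0, 0, 0, 0, 0],
  [0, 0, 0, 0, 0, 0, 8, 0, 0, 0, 0, 0, 0, 0, 0, 0, 0, 0, 0, 0, 0, 0, 0, 0],
  [0, 0, 0, 0, 0, 0, 0, -8, 0, 0, 0, 0, 0, 0, 0, 0, 0, 0, 0, 0, 0, 0, 0, 0],
  [0, 0, 0, 0, 0, 0, 0, 0, 8, 0, 0, 0, 0, 0, 0, 0, 0, 0, 0, 0, 0, 0, 0, 0],
  [0, 0, 0, 0, 0, 0, 0, 0, 0, 8, 0, 0, 0, 0, 0, 0, 0, 0, 0, 0, 0, 0, 0, 0],
  [0, 0, 0, 0, 0, 0, 0, 0, 0, 0, -8, 0, 0, 0, 0, 0, 0, 0, 0, 0, 0, 0, 0, 0],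
  [0, 0, 0, 0, 0, 0, 0, 0, 0, 0, 0, 8, 0, 0, 0, 0, 0, 0, 0, 0, 0, 0, 0, 0],
  [0, 0, 0, 0, 0, 0, 0, 0, 0, 0, 0, 0, -8, 0, 0, 0, 0, 0, 0, 0, 0, 0, 0, 0],
  [0, 0, 0, 0, 0, 0, 0, 0, 0, 0, 0, 0, 0, 8, 0, 0, 0, 0, 0, 0, 0, 0, 0, 0],
  [0, 0, 0, 0, 0, 0, 0, 0, 0, 0, 0, 0, 0, 0, 8, 0, 0, 0, 0, 0, 0, 0, 0, 0],
  [0, 0, 0, 0, 0, 0, 0, 0, 0, 0, 0, 0, 0, 0, 0, 8, 0, 0, 0, 0, 0, 0, 0, 0],
  [0, 0, 0, 0, 0, 0, 0, 0, 0, 0, 0, 0, 0, 0, 0, 0, 8, 0, 0, 0, 0, 0, 0, 0],
  [0, 0, 0, 0, 0, 0, 0, 0, 0, 0, 0, 0, 0, 0, 0, 0, 0, 8, 0, 0, 0, 0, 0, 0],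
  [0, 0, 0, 0, 0, 0, 0, 0, 0, 0, 0, 0, 0, 0, 0, 0, 0, 0, 8, 0, 0, 0, 0, 0],
  [0, 0, 0, 0, 0, 0, 0, 0, 0, 0, 0, 0, 0, 0, 0, 0, 0, 0, 0, 8, 0, 0, 0, 0],
  [0, 0, 0, 0, 0, 0, 0, 0, 0, 0, 0, 0, 0, 0, 0, 0, 0, 0, 0, 0, 8, 0, 0, 0],
  [0, 0, 0, 0, 0, 0, 0, 0, 0, 0, 0, 0, 0, 0, 0, 0, 0, 0, 0, 0, 0, 8, 0, 0],
  [0, 0, 0, 0, 0, 0, 0, 0, 0, 0, 0, 0, 0, 0, 0, 0, 0, 0, 0, 0, 0, 0, 8, 0],
  [0, 0, 0, 0, 0, 0, 0, 0, 0, 0, 0, 0, 0, 0, 0, 0, 0, 0, 0, 0, 0, 0, 0, 8]]

theorem okA : Ok rA cA := Ok.of_bool (by exact Cfsg.Agent.CoOneType.CoQ.ok2_of (by decide +kernel))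

theorem okB : Ok rB cB := Ok.of_bool (by exact Cfsg.Agent.CoOneType.CoQ.ok2_of (by decide +kernel))

theorem okC : Ok rC cC := Ok.of_bool (by exact Cfsg.Agent.CoOneType.CoQ.ok2_of (by decide +kernel))

theorem okD : Ok rD cD := Ok.of_bool (by exact Cfsg.Agent.CoOneType.CoQ.ok2_of (by decide +kernel))

theorem okZ : Ok rZ rZ := Ok.of_bool (by exact Cfsg.Agent.CoOneType.CoQ.ok2_of (by decide +kernel))

/-- The letters: `a b c d`, their inverses, and `z`. -/
def M : ℕ → List (List ℤ)
  | 0 => rA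
  | 1 => rB
  | 2 => rC
  | 3 => rD
  | 4 => cA
  | 5 => cB
  | 6 => cC
  | 7 => cD
  | _ => rZ

/-- The elements of `Co₀`. -/
def e : ℕ → Co0
  | 0 => mk okA
  | 1 => mk okB
  | 2 => mk okC
  | 3 => mk okD
  | 4 => (mk okA)⁻¹
  | 5 => (mk okB)⁻¹
  | 6 => (mk okC)⁻¹
  | 7 => (mk okD)⁻¹
  | _ => mk okZ

theorem rep : ∀ i, Rep (e i) (M i)
  | 0 => rep_mk okA
  | 1 => rep_mk okB
  | 2 => rep_mk okC
  | 3 => rep_mk okD
  | 4 => rep_inv okA
  | 5 => rep_inv okB
  | 6 => rep_inv okC
  | 7 => rep_inv okD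
  | _ + 8 => rep_mk okZ

theorem cube0 : relB M [0, 0, 0] = true := by (delta Cfsg.Agent.CoOneType.CoEval.relB; rewrite [Cfsg.Agent.CoOneType.CoW.fold_eq]; decide +kernel)
theorem cube1 : relB M [1, 1, 1] = true := by (delta Cfsg.Agent.CoOneType.CoEval.relB; rewrite [Cfsg.Agent.CoOneType.CoW.fold_eq]; decide +kernel)
theorem cube2 : relB M [2, 2, 2] = true := by (delta Cfsg.Agent.CoOneType.CoEval.relB; rewrite [Cfsg.Agent.CoOneType.CoW.fold_eq]; decide +kernel)
theorem cube3 : relB M [3, 3, 3] = true := by (delta Cfsg.Agent.CoOneType.CoEval.relB; rewrite [Cfsg.Agent.CoOneType.CoW.fold_eq]; decide +kernel)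
theorem comm01 : relB M [0, 1, 4, 5] = true := by (delta Cfsg.Agent.CoOneType.CoEval.relB; rewrite [Cfsg.Agent.CoOneType.CoW.fold_eq]; decide +kernel)
theorem comm02 : relB M [0, 2, 4, 6] = true := by (delta Cfsg.Agent.CoOneType.CoEval.relB; rewrite [Cfsg.Agent.CoOneType.CoW.fold_eq]; decide +kernel)
theorem comm03 : relB M [0, 3, 4, 7] = true := by (delta Cfsg.Agent.CoOneType.CoEval.relB; rewrite [Cfsg.Agent.CoOneType.CoW.fold_eq]; decide +kernel)
theorem comm12 : relB M [1, 2, 5, 6] = true := by (delta Cfsg.Agent.CoOneType.CoEval.relB; rewrite [Cfsg.Agent.CoOneType.CoW.fold_eq]; decide +kernel)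
theorem comm13 : relB M [1, 3, 5, 7] = true := by (delta Cfsg.Agent.CoOneType.CoEval.relB; rewrite [Cfsg.Agent.CoOneType.CoW.fold_eq]; decide +kernel)
theorem comm23 : relB M [2, 3, 6, 7] = true := by (delta Cfsg.Agent.CoOneType.CoEval.relB; rewrite [Cfsg.Agent.CoOneType.CoW.fold_eq]; decide +kernel)
theorem commz0 : relB M [0, 8, 4, 8] = true := by (delta Cfsg.Agent.CoOneType.CoEval.relB; rewrite [Cfsg.Agent.CoOneType.CoW.fold_eq]; decide +kernel)
theorem commz1 : relB M [1, 8, 5, 8] = true := by (delta Cfsg.Agent.CoOneType.CoEval.relB; rewrite [Cfsg.Agent.CoOneType.CoW.fold_eq]; decide +kernel)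
theorem commz2 : relB M [2, 8, 6, 8] = true := by (delta Cfsg.Agent.CoOneType.CoEval.relB; rewrite [Cfsg.Agent.CoOneType.CoW.fold_eq]; decide +kernel)
theorem commz3 : relB M [3, 8, 7, 8] = true := by (delta Cfsg.Agent.CoOneType.CoEval.relB; rewrite [Cfsg.Agent.CoOneType.CoW.fold_eq]; decide +kernel)

/-- the word `a^i b^j c^k d^l` -/
def wd (i j k l : Fin 3) : List ℕ :=
  List.replicate i.val 0 ++ (List.replicate j.val 1 ++ (List.replicate k.val 2 ++ List.replicate l.val 3))

theorem ne_all : ∀ i j k l : Fin 3, (i = 0 ∧ j = 0 ∧ k = 0 ∧ l = 0) ∨ neB M (wd i j k l) = true := by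
  (delta Cfsg.Agent.CoOneType.CoEval.neB; rewrite [Cfsg.Agent.CoOneType.CoW.fold_eq]; decide +kernel)

end Cfsg.Agent.Sigma.CoOneMat
end

-- part: Sigma/MonsterFin
section
-- merged: Cfsg.Agent.Sigma.CoOne
section

/-!
# `3 ∈ σ(Co₁)`

The centralizer of an octad involution of `Co₁` has odd index and 3-rank at least four.
-/

set_option autoImplicit false
set_option maxRecDepth 10000

namespace Cfsg.Agent.Sigma.CoOne

open Cfsg Subgroup
open Cfsg.Agent.SporadicA Cfsg.Agent.SporadicA.Co0Mono Cfsg.Agent.SporadicA.Co1Simple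
open Cfsg.Agent.CoOneType.SignFacts (sup wt mem_sup)
open Cfsg.Agent.CoOneType.CoOneE
open Cfsg.Agent.SporadicStructure.Co0Matrix Cfsg.Agent.CoOneType.CoEval
open Cfsg.Agent.Sigma.Tools Cfsg.Agent.Sigma.CoOneMat

/-- the projections `Co₀ → Co₁` of `CoOneE` and of `CoEval` (they are the same map) -/
local notation "prE" => Cfsg.Agent.CoOneType.CoOneE.pr
@[inherit_doc] local notation "prV" => Cfsg.Agent.CoOneType.CoEval.pr

/-- the mask of the octad -/
def mask : ℕ := 5279

theorem mask_code : GolayBase.isCode mask = true := by decide +kernel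

/-- the octad -/
def oct : golayCode := ⟨GolayBase.word mask, word_mem_of_isCode mask_code⟩

theorem wt_oct : wt oct = 8 := by
  unfold wt sup
  change (support₂ (GolayBase.word mask)).card = 8
  rw [GolayBase.support₂_word]
  decide +kernel

theorem vec_eq : ∀ p : GolayPt, signMap oct (vec betaL) p = vec (ap rZ betaL) p := by
  (rewrite [Cfsg.Agent.CoOneType.CoAp.ap_F]; decide +kernel)

theorem z_eq : mk okZ = signCo0 oct := by
  apply eq_of_fix
  apply Subtype.ext
  have h1 := Rep.apply (rep_mk okZ) (v := beta) (l := betaL) (by decide) rfl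
  rw [h1]
  funext p
  exact (vec_eq p).symm

instance : Finite Co0 := Cfsg.Agent.CoOneType.FrameFix.finite_co0

instance : Finite Spor.Co1 := Quotient.finite _

theorem odd_index_N : ¬ 2 ∣ (N.map prE).index := by
  intro h1
  have h2 : (N.map prE).index = N.index := by
    rw [← Subgroup.index_comap_of_surjective _ pr_surjective, Subgroup.comap_map_eq_self]
    intro x hx
    have h3 : x ∈ center Co0 := by
      rw [MonoidHom.mem_ker] at hx
      have h4 : prE 1 = prE x := by rw [map_one, hx]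
      rw [mem_center_iff]
      rcases (pr_eq_iff 1 x).1 h4 with h5 | h5
      · exact Or.inl h5
      · rw [one_mul] at h5; exact Or.inr h5
    rcases (mem_center_iff x).1 h3 with rfl | rfl
    · exact N.one_mem
    · exact sign_mem_N _
  rw [h2, Cfsg.Agent.CoOneType.FrameFix.index_N] at h1
  omega

/-- **The centralizer of an octad involution has odd index.** -/
theorem odd_index (o : golayCode) (ho : wt o = 8) :
    ¬ 2 ∣ (centralizer ({prE (signCo0 o)} : Set Spor.Co1)).index := by
  have : Fact (Nat.Prime 2) := ⟨Nat.prime_two⟩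
  obtain ⟨S, hS⟩ := exists_sylow_le (p := 2) odd_index_N
  obtain ⟨x, hx, hSx⟩ := exists_fixed_of_odd S.isPGroup' {u : Spor.Co1 | u ∈ E ∧ IsConj (prE (signCo0 o)) u}
    (by
      have h1 := card_octadClass o ho
      have h2 : Nat.card ↥{u : Spor.Co1 | u ∈ E ∧ IsConj (prE (signCo0 o)) u} = 759 := h1
      rw [h2]
      norm_num)
    (by
      rintro s hs u ⟨hu, hc⟩
      refine ⟨?_, hc.trans (isConj_iff.2 ⟨s, rfl⟩)⟩
      obtain ⟨g, hg, rfl⟩ := hS hs
      obtain ⟨c, rfl⟩ := hu
      obtain ⟨d, hd⟩ := N_normalises g hg c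
      exact ⟨d, by rw [← hd, map_mul, map_mul, map_inv]⟩)
  exact not_dvd_index hx.2 S hSx

theorem prod_eq {w : List ℕ} (h : relB M w = true) : (w.map fun i => prV (e i)).prod = 1 :=
  eq_one_of_relB rep h

theorem pr_inv (g : Co0) : prV g⁻¹ = (prV g)⁻¹ := map_inv (QuotientGroup.mk' (Subgroup.center Co0)) g

/-- the four elements of order three -/
def x (i : Fin 4) : Spor.Co1 := prV (e i.val)

theorem e_inv (i : ℕ) (hi : i < 4) : e (i + 4) = (e i)⁻¹ := by
  interval_cases i <;> rfl

theorem comm_of {i j : ℕ} (hi : i < 4) (hj : j < 4) (h : relB M [i, j, i + 4, j + 4] = true) :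
    Commute (prV (e i)) (prV (e j)) := by
  have h1 := prod_eq h
  simp only [List.map_cons, List.map_nil, List.prod_cons, List.prod_nil, mul_one] at h1
  rw [e_inv i hi, e_inv j hj, pr_inv, pr_inv] at h1
  have h2 : prV (e i) * prV (e j) * (prV (e j) * prV (e i))⁻¹ = 1 := by
    rw [← h1]; group
  exact mul_inv_eq_one.1 h2

theorem x_comm (i j : Fin 4) : Commute (x i) (x j) := by
  have h01 : Commute (x 0) (x 1) := comm_of (by norm_num) (by norm_num) comm01
  have h02 : Commute (x 0) (x 2) := comm_of (by norm_num) (by norm_num) comm02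
  have h03 : Commute (x 0) (x 3) := comm_of (by norm_num) (by norm_num) comm03
  have h12 : Commute (x 1) (x 2) := comm_of (by norm_num) (by norm_num) comm12
  have h13 : Commute (x 1) (x 3) := comm_of (by norm_num) (by norm_num) comm13
  have h23 : Commute (x 2) (x 3) := comm_of (by norm_num) (by norm_num) comm23
  fin_cases i <;> fin_cases j <;>
    first
    | exact Commute.refl _
    | assumption
    | exact Commute.symm (by assumption)

theorem x_cube (i : Fin 4) : x i ^ 3 = 1 := by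
  have key : ∀ j : ℕ, relB M [j, j, j] = true → (prV (e j)) ^ 3 = 1 := by
    intro j hj
    have h1 := prod_eq hj
    simp only [List.map_cons, List.map_nil, List.prod_cons, List.prod_nil, mul_one] at h1
    rw [pow_succ, pow_two, mul_assoc]
    exact h1
  fin_cases i
  · exact key 0 cube0
  · exact key 1 cube1
  · exact key 2 cube2
  · exact key 3 cube3

/-- the involution -/
def z : Spor.Co1 := prV (signCo0 oct)

theorem z_def : prV (e 8) = z := by
  change prV (mk okZ) = _
  rw [z_eq]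
  rfl

theorem x_z (i : Fin 4) : x i ∈ centralizer ({z} : Set Spor.Co1) := by
  have key : ∀ j : ℕ, j < 4 → relB M [j, 8, j + 4, 8] = true → prV (e j) * z = z * prV (e j) := by
    intro j hj4 hj
    have h1 := prod_eq hj
    simp only [List.map_cons, List.map_nil, List.prod_cons, List.prod_nil, mul_one] at h1
    rw [e_inv j hj4, pr_inv, z_def] at h1
    have hz : z * z = 1 := by
      rw [z, ← map_mul, signCo0_mul_self, map_one]
    calc prV (e j) * z = prV (e j) * (z * ((prV (e j))⁻¹ * z)) * (z * prV (e j)) := by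
          rw [show prV (e j) * (z * ((prV (e j))⁻¹ * z)) * (z * prV (e j)) =
            prV (e j) * z * (prV (e j))⁻¹ * (z * z) * prV (e j) by group, hz]
          group
      _ = z * prV (e j) := by rw [h1, one_mul]
  rw [mem_centralizer_singleton_iff]
  fin_cases i
  · exact key 0 (by norm_num) commz0
  · exact key 1 (by norm_num) commz1
  · exact key 2 (by norm_num) commz2
  · exact key 3 (by norm_num) commz3

theorem x_indep (i j k l : Fin 3)
    (h : x 0 ^ (i : ℕ) * x 1 ^ (j : ℕ) * x 2 ^ (k : ℕ) * x 3 ^ (l : ℕ) = 1) :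
    (i : ℕ) = 0 ∧ (j : ℕ) = 0 ∧ (k : ℕ) = 0 ∧ (l : ℕ) = 0 := by
  rcases ne_all i j k l with ⟨rfl, rfl, rfl, rfl⟩ | h1
  · exact ⟨rfl, rfl, rfl, rfl⟩
  · exfalso
    apply ne_one_of_neB rep h1
    rw [← h, wd]
    simp only [List.map_append, List.map_replicate, List.prod_append, List.prod_replicate, mul_assoc]
    rfl

/-- **The centralizer of an octad involution has 3-rank at least four.** -/
theorem rank_z : PRankAtLeast 3 4 ↥(centralizer ({z} : Set Spor.Co1)) :=
  elem_of_four (by norm_num) x x_comm x_cube x_indep _ x_z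

theorem rank : PRankAtLeast 3 4 Spor.Co1 := pRankAtLeast_of_injective _ (subtype_injective _) rank_z

theorem wit : Wit 3 Spor.Co1 := by
  refine wit_of_centralizer (z := z) ?_ ?_ ?_ rank_z
  · intro h
    have h1 := (pr_sign_eq_one_iff oct).1 h
    rw [wt_oct] at h1
    omega
  · rw [z, ← map_pow, pow_two, signCo0_mul_self, map_one]
  · intro h
    exact odd_index oct wt_oct (dvd_trans (by norm_num) h)

/-- **`3 ∈ σ(Co₁)`.** -/
theorem mem_sigma {G : Type*} [Group G] [Finite G] (h : Spor.IsoCo1 G) : 3 ∈ sigmaSet G := by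
  obtain ⟨e⟩ := h
  exact (wit.congr e.symm).mem_sigma Nat.prime_three (by norm_num)

end Cfsg.Agent.Sigma.CoOne

end

-- merged: Cfsg.Agent.Sigma.Monster
section

/-!
# `3 ∈ σ(M)` from a chart of the centralizer of a 2-central involution
-/

set_option autoImplicit false

namespace Cfsg.Agent.Sigma.Monster

open Cfsg Subgroup Cfsg.Agent.Sigma.Tools

/-- the order of the centralizer -/
theorem card_centralizer {G : Type*} [Group G] [Finite G] {Q : Subgroup G} {z : G}
    {eta : G → Cfsg.Agent.MonsterU.Lam2.L2} {pi : centralizer ({z} : Set G) →* Spor.Co1}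
    (h : Cfsg.Agent.MonsterU.Ch.Chart Q z eta pi) :
    Nat.card ↥pi.ker = 2 ^ 25 ∧ Nat.card ↥(centralizer ({z} : Set G)) = 2 ^ 25 * 4157776806543360000 := by
  have hle : Q ≤ centralizer ({z} : Set G) := fun x hx => mem_centralizer_singleton_iff.2 (h.large.comm_z x hx)
  have h1 : pi.ker.map (centralizer ({z} : Set G)).subtype = Q := by
    ext x
    constructor
    · rintro ⟨y, hy, rfl⟩
      exact (h.pi_eq_one y).1 hy
    · intro hx
      exact ⟨⟨x, hle hx⟩, (h.pi_eq_one ⟨x, hle hx⟩).2 hx, rfl⟩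
  have h2 : Nat.card ↥pi.ker = 2 ^ 25 := by
    rw [← h.card_Q, ← h1, Subgroup.card_map_of_injective (subtype_injective _)]
  refine ⟨h2, ?_⟩
  rw [← pi.ker.card_mul_index, h2, Subgroup.index_ker, MonoidHom.range_eq_top.2 h.pi_surj, Subgroup.card_top,
    Cfsg.Agent.S0399.result.2]

/-- **`Wit` for a group of the order of the Monster with such a centralizer.** -/
theorem wit {G : Type*} [Group G] [Finite G] {Q : Subgroup G} {z : G}
    {eta : G → Cfsg.Agent.MonsterU.Lam2.L2} {pi : centralizer ({z} : Set G) →* Spor.Co1}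
    (h : Cfsg.Agent.MonsterU.Ch.Chart Q z eta pi)
    (hG : Nat.card G = 808017424794512875886459904961710757005754368000000000) : Wit 3 G := by
  obtain ⟨h1, h2⟩ := card_centralizer h
  refine wit_of_map Nat.prime_three h.large.z_ne (by rw [pow_two, h.large.z_sq]) pi h.pi_surj ?_ CoOne.rank ?_
  · rw [h1]
    norm_num
  · have h3 := (centralizer ({z} : Set G)).card_mul_index
    rw [h2, hG] at h3
    have h4 : (centralizer ({z} : Set G)).index = 5791748068511982636944259375 := by
      have h5 : (2 ^ 25 * 4157776806543360000) * 5791748068511982636944259375 =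
        808017424794512875886459904961710757005754368000000000 := by norm_num
      rw [← h5] at h3
      exact Nat.eq_of_mul_eq_mul_left (by norm_num) h3
    rw [h4]
    norm_num

end Cfsg.Agent.Sigma.Monster

end

-- merged: Cfsg.Agent.Sigma.MonsterFin
section

/-!
# `3 ∈ σ(M)`
-/

set_option autoImplicit false

namespace Cfsg.Agent.Sigma.MonsterFin

open Cfsg Subgroup

theorem finite_model : Finite ↥Cfsg.Agent.MonsterX.InstData.M.G :=
  Nat.finite_of_card_ne_zero (by rw [Cfsg.Agent.MonsterP.EquivOf.isM_model.2]; norm_num)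

theorem wit_model : Wit 3 ↥Cfsg.Agent.MonsterX.InstData.M.G := by
  have := finite_model
  have A := Cfsg.Agent.MonsterU.Uncond.all
  obtain ⟨eta, pi, h⟩ := Cfsg.Agent.MonsterU.ModelChart.chart A.hG A.hR A.hL A.hO A.hT
  exact Monster.wit h Cfsg.Agent.MonsterP.EquivOf.isM_model.2

/-- **`3 ∈ σ(M)`.** -/
theorem mem_sigma {G : Type*} [Group G] [Finite G] (h : Spor.IsoM G) : 3 ∈ sigmaSet G := by
  obtain ⟨e⟩ := h
  obtain ⟨f⟩ := Cfsg.Agent.MonsterP.Equiv.equiv
  have := finite_model
  exact (wit_model.congr (e.trans f).symm).mem_sigma Nat.prime_three (by norm_num)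

end Cfsg.Agent.Sigma.MonsterFin

end
end

-- part: Sigma/FischerB
section
-- merged: Cfsg.Agent.Sigma.Fischer
section

/-!
# `3 ∈ σ(Fi₂₂)`
-/

set_option autoImplicit false

namespace Cfsg.Agent.Sigma.Fischer

open Cfsg Subgroup Cfsg.Agent.Sigma.Tools

theorem wit22 [Finite Spor.Fi22] : Wit 3 Spor.Fi22 := by
  obtain ⟨K, iK, iKt, hc, h⟩ := Cfsg.Agent.S1684.result
  refine wit_of_cover Nat.prime_three (by norm_num) _ h (USix.rank (by rw [hc]; norm_num)) ?_
  have h1 := Cfsg.Agent.S1687.result.1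
  rw [h1]
  norm_num

theorem rank22 [Finite Spor.Fi22] : PRankAtLeast 3 4 Spor.Fi22 := by
  obtain ⟨K, iK, iKt, hc, h⟩ := Cfsg.Agent.S1684.result
  exact pRankAtLeast_of_injective _ (subtype_injective _)
    (rank_of_cover Nat.prime_three (by norm_num) h (USix.rank (by rw [hc]; norm_num)))

/-- **`3 ∈ σ(Fi₂₂)`.** -/
theorem mem_sigma22 {G : Type*} [Group G] [Finite G] (h : Spor.IsoFi22 G) : 3 ∈ sigmaSet G := by
  obtain ⟨e⟩ := h
  have : Finite Spor.Fi22 := Finite.of_equiv G e.toEquiv
  exact (wit22.congr e.symm).mem_sigma Nat.prime_three (by norm_num)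

end Cfsg.Agent.Sigma.Fischer

end

-- merged: Cfsg.Agent.Sigma.FischerB
section

/-!
# `3 ∈ σ(Fi₂₃)`
-/

set_option autoImplicit false

namespace Cfsg.Agent.Sigma.Fischer

open Cfsg Subgroup Cfsg.Agent.Sigma.Tools

theorem wit23 [Finite Spor.Fi22] [Finite Spor.Fi23] : Wit 3 Spor.Fi23 := by
  refine wit_of_cover Nat.prime_three (by norm_num) _ Cfsg.Agent.S1688.result rank22 ?_
  rw [Cfsg.Agent.S1689.result.1]
  norm_num

/-- **`3 ∈ σ(Fi₂₃)`.** -/
theorem mem_sigma23 {G : Type*} [Group G] [Finite G] (h : Spor.IsoFi23 G) : 3 ∈ sigmaSet G := by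
  obtain ⟨e⟩ := h
  have : Finite Spor.Fi23 := Finite.of_equiv G e.toEquiv
  have : Finite Spor.Fi22 := by
    obtain ⟨-, ⟨f⟩, -⟩ := Cfsg.Agent.S1688.result
    exact Finite.of_equiv _ f.toEquiv
  exact (wit23.congr e.symm).mem_sigma Nat.prime_three (by norm_num)

end Cfsg.Agent.Sigma.Fischer

end
end

-- part: Sigma/FiTF
section
-- merged: Cfsg.Agent.Sigma.RankTwelve
section

/-!
# The 3-rank of a group acting faithfully on `𝔽₂^12`

`rank_of_large` : if `Q = 2^{1+12}` is a large extraspecial subgroup of `C(z)` and `3^6` divides `|C(z)|`, then the 3-rank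
of `C(z)` is at least 4: a Sylow 3-subgroup of `GL₁₂(2)` has order `3^8` and an elementary abelian subgroup of order
`3^6`.
-/

set_option autoImplicit false

namespace Cfsg.Agent.Sigma.RankTwelve

open Cfsg Subgroup

/-- A conjugate of a `p`-subgroup meets another `p`-subgroup in a large subgroup. -/
theorem exists_inf {X : Type*} [Group X] [Finite X] {p a : ℕ} [Fact p.Prime] (ha : ¬ p ^ (a + 1) ∣ Nat.card X)
    {B P : Subgroup X} (hB : IsPGroup p ↥B) (hP : IsPGroup p ↥P) :
    ∃ g : X, Nat.card ↥P * Nat.card ↥B ≤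
      p ^ a * Nat.card ↥(P ⊓ B.map (MulAut.conj g).toMonoidHom : Subgroup X) := by
  obtain ⟨S, hS⟩ := hP.exists_le_sylow
  obtain ⟨T, hT⟩ := hB.exists_le_sylow
  obtain ⟨g, hg⟩ := MulAction.exists_smul_eq X T S
  refine ⟨g, ?_⟩
  set D : Subgroup X := B.map (MulAut.conj g).toMonoidHom with hD
  have hDS : D ≤ (S : Subgroup X) := by
    rw [← hg, Sylow.coe_subgroup_smul]
    exact Subgroup.map_mono hT
  have hcD : Nat.card ↥D = Nat.card ↥B := card_map_of_injective (MulAut.conj g).injective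
  have hp : p.Prime := Fact.out
  have hSc : Nat.card ↥(S : Subgroup X) ≤ p ^ a := by
    rw [show Nat.card ↥(S : Subgroup X) = Nat.card S from rfl, S.card_eq_multiplicity]
    refine Nat.pow_le_pow_right hp.pos ?_
    by_contra hcon
    apply ha
    rw [hp.pow_dvd_iff_le_factorization Nat.card_pos.ne']
    omega
  have h1 : Nat.card ↥P * P.relIndex (S : Subgroup X) = Nat.card ↥(S : Subgroup X) := by
    have h5 := relIndex_mul_relIndex (⊥ : Subgroup X) P (S : Subgroup X) bot_le hS
    rwa [relIndex_bot_left, relIndex_bot_left] at h5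
  have h2 : Nat.card ↥(P ⊓ D : Subgroup X) * P.relIndex D = Nat.card ↥D := by
    have h5 := relIndex_mul_relIndex (⊥ : Subgroup X) (P ⊓ D) D bot_le inf_le_right
    rwa [relIndex_bot_left, relIndex_bot_left, inf_relIndex_right] at h5
  have h3 : P.relIndex D ≤ P.relIndex (S : Subgroup X) :=
    relIndex_le_of_le_right hDS (by
      intro h0
      rw [h0, mul_zero] at h1
      exact Nat.card_pos.ne h1)
  calc Nat.card ↥P * Nat.card ↥B = Nat.card ↥P * (Nat.card ↥(P ⊓ D : Subgroup X) * P.relIndex D) := by rw [h2, hcD]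
    _ = (Nat.card ↥P * P.relIndex D) * Nat.card ↥(P ⊓ D : Subgroup X) := by ring
    _ ≤ (Nat.card ↥P * P.relIndex (S : Subgroup X)) * Nat.card ↥(P ⊓ D : Subgroup X) :=
        Nat.mul_le_mul_right _ (Nat.mul_le_mul_left _ h3)
    _ = Nat.card ↥(S : Subgroup X) * Nat.card ↥(P ⊓ D : Subgroup X) := by rw [h1]
    _ ≤ p ^ a * Nat.card ↥(P ⊓ D : Subgroup X) := Nat.mul_le_mul_right _ hSc

/-- **The rank of a group from an action.** -/
theorem rank_of_action {C X : Type*} [Group C] [Finite C] [Group X] [Finite X] {p a b c k : ℕ} [Fact p.Prime]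
    (f : C →* X) (hk : ¬ p ∣ Nat.card f.ker) (hC : p ^ c ∣ Nat.card C) (hX : ¬ p ^ (a + 1) ∣ Nat.card X)
    (B : Subgroup X) (hBc : ∀ x ∈ B, ∀ y ∈ B, x * y = y * x) (hBp : ∀ x ∈ B, x ^ p = 1) (hB : p ^ b ≤ Nat.card ↥B)
    (hle : a + k ≤ b + c) : PRankAtLeast p k C := by
  have hp : p.Prime := Fact.out
  obtain ⟨P, hPc⟩ := Sylow.exists_subgroup_card_pow_prime p hC
  have hP : IsPGroup p ↥P := IsPGroup.of_card hPc
  have hinj : ∀ x ∈ P, f x = 1 → x = 1 := by
    intro x hx h1
    obtain ⟨n, hn⟩ := hP ⟨x, hx⟩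
    have hn' : x ^ p ^ n = 1 := congrArg Subtype.val hn
    have h2 : orderOf x ∣ p ^ n := orderOf_dvd_of_pow_eq_one hn'
    have h3 : orderOf x ∣ Nat.card f.ker := by
      have h4 : orderOf (⟨x, h1⟩ : f.ker) ∣ Nat.card f.ker := orderOf_dvd_natCard _
      rwa [← Subgroup.orderOf_coe] at h4
    obtain ⟨m, -, hm⟩ := (Nat.dvd_prime_pow hp).1 h2
    have h5 : m = 0 := by
      by_contra h0
      exact hk ((dvd_pow_self p h0).trans (hm ▸ h3))
    rw [h5, pow_zero, orderOf_eq_one_iff] at hm
    exact hm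
  have hcP : Nat.card ↥(P.map f) = p ^ c := by
    rw [← hPc]
    have h1 : Function.Injective (f.comp P.subtype) := by
      rw [injective_iff_map_eq_one]
      rintro ⟨x, hx⟩ h
      exact Subtype.ext (hinj x hx h)
    have h2 : P.map f = (f.comp P.subtype).range := by
      rw [MonoidHom.range_eq_map, ← Subgroup.map_map, ← MonoidHom.range_eq_map, Subgroup.range_subtype]
    rw [h2]
    exact (Nat.card_congr (MonoidHom.ofInjective h1).toEquiv).symm
  have hBP : IsPGroup p ↥B := fun x => ⟨1, Subtype.ext (by rw [pow_one]; exact hBp x x.2)⟩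
  obtain ⟨g, hg⟩ := exists_inf (a := a) hX hBP (hP.map f)
  set D : Subgroup X := B.map (MulAut.conj g).toMonoidHom with hD
  refine ⟨P ⊓ D.comap f, ⟨⟨?_⟩⟩, ?_, ?_⟩
  · rintro ⟨x, hx, hx'⟩ ⟨y, hy, hy'⟩
    obtain ⟨u, hu, hux⟩ : f x ∈ D := hx'
    obtain ⟨v, hv, hvy⟩ : f y ∈ D := hy'
    have h1 : f x * f y = f y * f x := by
      rw [← hux, ← hvy]
      change MulAut.conj g u * MulAut.conj g v = MulAut.conj g v * MulAut.conj g u
      rw [← map_mul, hBc u hu v hv, map_mul]
    apply Subtype.ext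
    change x * y = y * x
    have h2 : x * y * (y * x)⁻¹ = 1 := by
      apply hinj _ (mul_mem (mul_mem hx hy) (inv_mem (mul_mem hy hx)))
      rw [map_mul, map_inv, map_mul, map_mul, h1, mul_inv_cancel]
    exact mul_inv_eq_one.1 h2
  · rintro x ⟨hx, hx'⟩
    obtain ⟨u, hu, hux⟩ : f x ∈ D := hx'
    apply hinj _ (pow_mem hx p)
    rw [map_pow, ← hux]
    change (MulAut.conj g u) ^ p = 1
    rw [← map_pow, hBp u hu, map_one]
  · have h1 : P.map f ⊓ D ≤ (P ⊓ D.comap f).map f := by
      rintro _ ⟨⟨x, hx, rfl⟩, hx'⟩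
      exact ⟨x, ⟨hx, hx'⟩, rfl⟩
    have h2 : Nat.card ↥(P.map f ⊓ D : Subgroup X) ≤ Nat.card ↥(P ⊓ D.comap f : Subgroup C) := by
      refine (Subgroup.card_le_of_le h1).trans ?_
      exact Nat.card_le_card_of_surjective (f.subgroupMap _) (f.subgroupMap_surjective _)
    have h3 : p ^ c * p ^ b ≤ p ^ a * Nat.card ↥(P ⊓ D.comap f : Subgroup C) := by
      calc p ^ c * p ^ b ≤ Nat.card ↥(P.map f) * Nat.card ↥B := by
            rw [hcP]
            exact Nat.mul_le_mul_left _ hB
        _ ≤ p ^ a * Nat.card ↥(P.map f ⊓ D : Subgroup X) := hg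
        _ ≤ _ := Nat.mul_le_mul_left _ h2
    have h4 : p ^ a * p ^ k ≤ p ^ c * p ^ b := by
      rw [← pow_add, ← pow_add]
      exact Nat.pow_le_pow_right hp.pos (by omega)
    exact Nat.le_of_mul_le_mul_left (h4.trans h3) (pow_pos hp.pos a)

/-! ### The group `GL₁₂(2)` -/

/-- the element of order 3 of `GL₂(2)` -/
def om : (ZMod 2 × ZMod 2) ≃ₗ[ZMod 2] (ZMod 2 × ZMod 2) where
  toFun v := (v.2, v.1 + v.2)
  invFun v := (v.1 + v.2, v.1)
  map_add' := by decide
  map_smul' := by decide
  left_inv := by decide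
  right_inv := by decide

theorem om_pow : om ^ 3 = 1 := by
  ext v <;> revert v <;> decide

theorem om_ne : om ≠ 1 := by
  intro h
  have h1 : om (1, 0) = (1, 0) := by rw [h]; rfl
  revert h1
  decide

/-- the diagonal blocks -/
def blk : (Fin 6 → ↥(zpowers om)) →* ((Fin 6 → ZMod 2 × ZMod 2) ≃ₗ[ZMod 2] (Fin 6 → ZMod 2 × ZMod 2)) where
  toFun g := LinearEquiv.piCongrRight fun i => (g i : (ZMod 2 × ZMod 2) ≃ₗ[ZMod 2] (ZMod 2 × ZMod 2))
  map_one' := rfl
  map_mul' _ _ := rfl

theorem blk_injective : Function.Injective blk := by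
  intro g h hgh
  funext i
  apply Subtype.ext
  apply LinearEquiv.ext
  intro u
  have h1 := congrFun (LinearEquiv.congr_fun hgh fun _ => u) i
  exact h1

theorem card_range : Nat.card ↥blk.range = 3 ^ 6 := by
  rw [← Nat.card_congr (MonoidHom.ofInjective blk_injective).toEquiv, Nat.card_fun, Nat.card_zpowers,
    orderOf_eq_prime om_pow om_ne, Nat.card_eq_fintype_card, Fintype.card_fin]

/-- transport of the automorphism group -/
def conjE {V W : Type*} [AddCommGroup V] [AddCommGroup W] [Module (ZMod 2) V] [Module (ZMod 2) W]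
    (e : V ≃ₗ[ZMod 2] W) : (V ≃ₗ[ZMod 2] V) ≃* (W ≃ₗ[ZMod 2] W) where
  toFun f := e.symm.trans (f.trans e)
  invFun f := e.trans (f.trans e.symm)
  left_inv f := by ext v; simp
  right_inv f := by ext v; simp
  map_mul' f g := by ext v; simp

theorem finite_aut (V : Type*) [AddCommGroup V] [Module (ZMod 2) V] [Finite V] : Finite (V ≃ₗ[ZMod 2] V) :=
  Finite.of_injective (fun e : V ≃ₗ[ZMod 2] V => (e : V → V)) DFunLike.coe_injective

section
variable {V : Type*} [AddCommGroup V] [Module (ZMod 2) V] [Finite V]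

theorem finrank_of_card {n : ℕ} (h : Nat.card V = 2 ^ n) : Module.finrank (ZMod 2) V = n := by
  have h1 := Module.natCard_eq_pow_finrank (K := ZMod 2) (V := V)
  rw [h, Nat.card_zmod] at h1
  exact (Nat.pow_right_injective le_rfl h1).symm

theorem not_dvd (h : Nat.card V = 2 ^ 12) : ¬ 3 ^ 9 ∣ Nat.card (V ≃ₗ[ZMod 2] V) := by
  have : Fact (Nat.Prime 2) := ⟨Nat.prime_two⟩
  have e : V ≃ₗ[ZMod 2] (Fin 12 → ZMod 2) := LinearEquiv.ofFinrankEq _ _ (by
    rw [finrank_of_card h, Module.finrank_fin_fun])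
  have h1 : Nat.card (V ≃ₗ[ZMod 2] V) = Nat.card (GL (Fin 12) (ZMod 2)) :=
    (Nat.card_congr (conjE e).toEquiv).trans
      (Nat.card_congr (Matrix.GeneralLinearGroup.toLin.trans
        (LinearMap.GeneralLinearGroup.generalLinearEquiv (ZMod 2) (Fin 12 → ZMod 2))).toEquiv).symm
  rw [h1, Matrix.card_GL_field, ZMod.card]
  decide +kernel

theorem exists_elem (h : Nat.card V = 2 ^ 12) : ∃ B : Subgroup (V ≃ₗ[ZMod 2] V), (∀ x ∈ B, ∀ y ∈ B, x * y = y * x) ∧
    (∀ x ∈ B, x ^ 3 = 1) ∧ Nat.card ↥B = 3 ^ 6 := by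
  have e : (Fin 6 → ZMod 2 × ZMod 2) ≃ₗ[ZMod 2] V := LinearEquiv.ofFinrankEq _ _ (by
    rw [finrank_of_card h, Module.finrank_pi_fintype]
    simp)
  refine ⟨blk.range.map (conjE e).toMonoidHom, ?_, ?_, ?_⟩
  · rintro _ ⟨_, ⟨g, rfl⟩, rfl⟩ _ ⟨_, ⟨k, rfl⟩, rfl⟩
    have h1 : g * k = k * g := by
      funext i
      apply Subtype.ext
      obtain ⟨n, hn⟩ := mem_zpowers_iff.1 (g i).2
      obtain ⟨m, hm⟩ := mem_zpowers_iff.1 (k i).2
      change ((g i : (ZMod 2 × ZMod 2) ≃ₗ[ZMod 2] (ZMod 2 × ZMod 2))) * (k i) = (k i) * (g i)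
      rw [← hn, ← hm, ← zpow_add, ← zpow_add, add_comm]
    rw [← map_mul, ← map_mul, h1, map_mul, map_mul]
  · rintro _ ⟨_, ⟨g, rfl⟩, rfl⟩
    have h1 : g ^ 3 = 1 := by
      funext i
      apply Subtype.ext
      obtain ⟨n, hn⟩ := mem_zpowers_iff.1 (g i).2
      change ((g i : (ZMod 2 × ZMod 2) ≃ₗ[ZMod 2] (ZMod 2 × ZMod 2))) ^ 3 = 1
      rw [← hn, ← zpow_natCast, ← zpow_mul, mul_comm, zpow_mul, zpow_natCast, om_pow, one_zpow]
    rw [← map_pow, ← map_pow, h1, map_one, map_one]
  · rw [card_map_of_injective (conjE e).injective, card_range]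

end

/-- **The 3-rank of `C(z)`, `F*(C(z)) = 2^{1+12}`.** -/
theorem rank_of_large {G : Type*} [Group G] [Finite G] {Q : Subgroup G} {z : G}
    (h : Cfsg.Agent.Co2Type.Quad.Large Q z) (hQ : Nat.card ↥Q = 2 ^ 13)
    (hC : 3 ^ 6 ∣ Nat.card ↥(centralizer ({z} : Set G))) : PRankAtLeast 3 4 ↥(centralizer ({z} : Set G)) := by
  have : Fact (Nat.Prime 3) := ⟨Nat.prime_three⟩
  have hV : Nat.card h.V = 2 ^ 12 := by
    have h1 := h.card_eq
    rw [hQ] at h1
    omega
  obtain ⟨B, hB1, hB2, hB3⟩ := exists_elem hV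
  have := finite_aut h.V
  refine rank_of_action (a := 8) (b := 6) (c := 6) h.act ?_ hC (not_dvd hV) B hB1 hB2 hB3.ge (by norm_num)
  intro h3
  have h1 : Nat.card h.act.ker ∣ Nat.card ↥Q := by
    have h2 : h.act.ker.map (centralizer ({z} : Set G)).subtype ≤ Q := by
      rintro _ ⟨x, hx, rfl⟩
      exact h.mem_of_act x hx
    have h4 : Nat.card ↥(h.act.ker.map (centralizer ({z} : Set G)).subtype) = Nat.card ↥h.act.ker :=
      card_map_of_injective (subtype_injective _)
    rw [← h4]
    exact card_dvd_of_le h2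
  have h2 := h3.trans h1
  rw [hQ] at h2
  revert h2
  decide

end Cfsg.Agent.Sigma.RankTwelve

end

-- merged: Cfsg.Agent.Sigma.FiTFOf
section

/-!
# `3 ∈ σ(Fi24')` from the frame
-/

set_option autoImplicit false

namespace Cfsg.Agent.Sigma.FiTFOf

open Cfsg Subgroup Cfsg.Agent.Sigma.Tools

variable {F : Type*} [Group F] {K : Subgroup F} {z : F} {R E : Subgroup F} {Om : Set F}

/-- `R` is large in `K` -/
theorem large (h : KFacts.FiTF.Frame K z R E Om) :
    Cfsg.Agent.Co2Type.Quad.Large (R.subgroupOf K) (⟨z, h.EK (h.RE h.zR)⟩ : ↥K) where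
  z_mem := h.zR
  z_ne h1 := h.z1 (congrArg Subtype.val h1)
  z_sq := Subtype.ext h.zz
  comm_z x hx := Subtype.ext (h.Ez x (h.RE hx))
  conj_mem g hg x hx := h.norm g (congrArg Subtype.val hg) x hx
  sq x hx := by
    rcases h.sq x hx with h1 | h1
    · exact Or.inl (Subtype.ext h1)
    · exact Or.inr (Subtype.ext h1)
  comm x hx y hy := by
    rcases h.com x hx y hy with h1 | h1
    · exact Or.inl (Subtype.ext h1)
    · right
      apply Subtype.ext
      change (x : F) * y = y * x * z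
      rw [h1]
      exact (h.Ez _ (mul_mem (h.RE hy) (h.RE hx))).symm
  cent x hx hc := by
    rcases h.ctr x hx fun s hs => (congrArg Subtype.val (hc ⟨s, h.EK (h.RE hs)⟩ hs)).symm with h1 | h1
    · exact Or.inl (Subtype.ext h1)
    · exact Or.inr (Subtype.ext h1)
  self g hg hc := by
    rcases h.cent g fun s hs => congrArg Subtype.val (hc ⟨s, h.EK (h.RE hs)⟩ hs) with h1 | h1
    · change (g : F) ∈ R
      rw [h1]
      exact R.one_mem
    · change (g : F) ∈ R
      rw [h1]
      exact h.zR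

theorem card_R (h : KFacts.FiTF.Frame K z R E Om) : Nat.card ↥(R.subgroupOf K) = 2 ^ 13 := by
  rw [Nat.card_congr (subgroupOfEquivOfLe (h.RE.trans h.EK)).toEquiv, h.cardR]
  norm_num

theorem centralizer_eq (h : KFacts.FiTF.Frame K z R E Om) :
    centralizer ({⟨z, h.EK (h.RE h.zR)⟩} : Set ↥K) = (centralizer ({z} : Set F)).subgroupOf K := by
  ext x
  rw [mem_centralizer_singleton_iff, mem_subgroupOf, mem_centralizer_singleton_iff, Subtype.ext_iff]
  rfl

/-- orders and indices in `K` -/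
theorem arith [Finite F] (h : KFacts.FiTF.Frame K z R E Om) :
    Nat.card ↥(centralizer ({z} : Set F)) =
      2 * Nat.card ↥(centralizer ({⟨z, h.EK (h.RE h.zR)⟩} : Set ↥K)) ∧
    (centralizer ({⟨z, h.EK (h.RE h.zR)⟩} : Set ↥K)).index = (centralizer ({z} : Set F)).index := by
  rw [centralizer_eq h]
  set C : Subgroup F := centralizer ({z} : Set F) with hC
  have h1 : Nat.card ↥(C.subgroupOf K) * (C.subgroupOf K).index = Nat.card ↥K := card_mul_index _
  have h2 : Nat.card ↥K * K.index = Nat.card F := card_mul_index _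
  have h3 : Nat.card ↥C * C.index = Nat.card F := card_mul_index _
  have h4 : Nat.card ↥(K.subgroupOf C) * (K.subgroupOf C).index = Nat.card ↥C := card_mul_index _
  have h5 : Nat.card ↥(K.subgroupOf C) = Nat.card ↥(C.subgroupOf K) := by
    have e1 : Nat.card ↥((K.subgroupOf C).map C.subtype) = Nat.card ↥(K.subgroupOf C) :=
      card_map_of_injective C.subtype_injective
    have e2 : Nat.card ↥((C.subgroupOf K).map K.subtype) = Nat.card ↥(C.subgroupOf K) :=
      card_map_of_injective K.subtype_injective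
    rw [← e1, ← e2, subgroupOf_map_subtype, subgroupOf_map_subtype, inf_comm]
  have hn := h.nK
  have h6 : (K.subgroupOf C).index ∣ 2 := by
    rw [← h.two]
    exact relIndex_dvd_index_of_normal K C
  have h7 : Odd C.index := h.odd
  rw [h.two] at h2
  rw [h5] at h4
  have h8 : 0 < Nat.card ↥(C.subgroupOf K) := Nat.card_pos
  have h9 : Nat.card ↥(C.subgroupOf K) * (2 * (C.subgroupOf K).index) =
      Nat.card ↥(C.subgroupOf K) * ((K.subgroupOf C).index * C.index) := by
    calc _ = Nat.card ↥(C.subgroupOf K) * (C.subgroupOf K).index * 2 := by ring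
      _ = Nat.card F := by rw [h1, h2]
      _ = Nat.card ↥C * C.index := h3.symm
      _ = _ := by rw [← h4]; ring
  have h10 := Nat.eq_of_mul_eq_mul_left h8 h9
  rcases (Nat.dvd_prime Nat.prime_two).1 h6 with h11 | h11
  · rw [h11, one_mul] at h10
    obtain ⟨m, hm⟩ := h7
    omega
  · rw [h11] at h10 h4
    exact ⟨by rw [← h4]; ring, Nat.eq_of_mul_eq_mul_left (by norm_num) h10⟩

/-- **`Wit 3 Fi24'` from a frame.** -/
theorem wit [Finite F] (h : KFacts.FiTF.Frame K z R E Om) (hC : 3 ^ 6 ∣ Nat.card ↥(centralizer ({z} : Set F))) :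
    Wit 3 ↥K := by
  obtain ⟨h1, h2⟩ := arith h
  refine wit_of_centralizer (large h).z_ne (by rw [pow_two]; exact (large h).z_sq) ?_
    (RankTwelve.rank_of_large (large h) (card_R h) ?_)
  · rw [h2]
    intro h4
    obtain ⟨m, hm⟩ := h.odd
    omega
  · rw [h1] at hC
    exact (Nat.Coprime.dvd_of_dvd_mul_left (by norm_num) hC)

end Cfsg.Agent.Sigma.FiTFOf

end

-- merged: Cfsg.Agent.Sigma.FiTF
section

/-!
# `3 ∈ σ(Fi24')`
-/

set_option autoImplicit false

namespace Cfsg.Agent.Sigma.FiTF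

open Cfsg Subgroup

theorem wit24 : Wit 3 Spor.Fi24' := by
  have : Finite Spor.Fi24 := Cfsg.Agent.R08.FiTwentyFour.finite_Fi24
  refine FiTFOf.wit KFacts.FiTF.frame ?_
  rw [KFacts.FiTF.Order.card]
  norm_num

/-- **`3 ∈ σ(Fi24')`.** -/
theorem mem_sigma24 {G : Type*} [Group G] [Finite G] (h : Spor.IsoFi24' G) : 3 ∈ sigmaSet G := by
  obtain ⟨e⟩ := h
  have : Finite Spor.Fi24' := Finite.of_equiv G e.toEquiv
  exact (wit24.congr e.symm).mem_sigma Nat.prime_three (by norm_num)

end Cfsg.Agent.Sigma.FiTF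

end
end

private theorem dce_a28c359a0b25 : _root_.True := by
  try have : _root_.True := by simp only [_root_.Cfsg.Agent.Sigma.CoOneMat.wd.eq_1]
  try have : _root_.True := by simp only [_root_.Cfsg.Agent.Sigma.CoOne.z.eq_1]
  exact _root_.True.intro
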